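import Groth.Agent.H1Sect.Gens
import Groth.Agent.H02CA.RegularLocal
import Groth.Agent.H02CA.GorRing
import Mathlib

/-!
# The affine ring of a curve minus a point and the section ring away from its degree one section
-/

set_option autoImplicit false
set_option linter.style.haveILetI false
set_option linter.unusedSectionVars false

universe u

open Polynomial

namespace Groth.Agent.H1Sect

open Groth.Agent.H23FunFld W4c6gradedringsgw

variable {k K : Type u} [Field k] [IsAlgClosed k] [Field K] [Algebra k K]
  (hK : FunFld.IsFunctionField k K) (P : FunFld.Place k K)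

/-- The functions regular away from `P`. -/
def affineRing : Subalgebra k K where
  carrier := {x | ∀ Q : FunFld.Place k K, Q ≠ P → Q.1 x ≤ 1}
  mul_mem' {x y} hx hy Q hQ := by
    rw [map_mul]; exact mul_le_one' (hx Q hQ) (hy Q hQ)
  add_mem' {x y} hx hy Q hQ := (Q.1.map_add x y).trans (max_le (hx Q hQ) (hy Q hQ))
  algebraMap_mem' c Q _ := Q.2.1 c

theorem single_le_of_le {m n : ℕ} (h : m ≤ n) :
    (Finsupp.single P (m : ℤ) : FunFld.Divisor k K) ≤ Finsupp.single P (n : ℤ) :=
  Finsupp.single_mono (by exact_mod_cast h)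

theorem mem_affineRing_iff {x : K} :
    x ∈ affineRing P ↔ ∃ n : ℕ, x ∈ FunFld.L (Finsupp.single P (n : ℤ)) := by
  constructor
  · intro hx
    rcases eq_or_ne x 0 with rfl | hx0
    · exact ⟨0, zero_mem _⟩
    refine ⟨(-P.ord x).toNat, fun Q => ?_⟩
    rcases eq_or_ne Q P with rfl | hQ
    · rw [Finsupp.single_eq_same, val_le_exp_iff _ hx0]
      exact Int.self_le_toNat _
    · rw [Finsupp.single_eq_of_ne hQ, WithZero.exp_zero]
      exact hx Q hQ
  · rintro ⟨n, hn⟩ Q hQ
    have := hn Q
    rwa [Finsupp.single_eq_of_ne hQ, WithZero.exp_zero] at this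

theorem mem_affineRing_of_mem {n : ℕ} {x : K} (hx : x ∈ FunFld.L (Finsupp.single P (n : ℤ))) :
    x ∈ affineRing P :=
  (mem_affineRing_iff P).2 ⟨n, hx⟩

include hK

theorem isFractionRing_affineRing : IsFractionRing (affineRing P) K := by
  refine IsFractionRing.of_field (affineRing P) K fun x => ?_
  have hd : ∀ m : ℤ, FunFld.Divisor.deg (Finsupp.single P m : FunFld.Divisor k K) = m := fun m => by
    rw [deg_single, H23LinSer.deg_eq_one hK P]; simp
  obtain ⟨n, hn⟩ : ∃ n : ℕ, (FunFld.genus k K : ℤ) + (poleDiv (k := k) x).deg ≤ n :=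
    ⟨_, Int.self_le_toNat _⟩
  let D : FunFld.Divisor k K := Finsupp.single P (n : ℤ) - poleDiv (k := k) x
  have hell : 0 < FunFld.ell D := by
    have h1 := ell_ge hK D
    have h2 : D.deg = n - (poleDiv (k := k) x).deg := by rw [deg_sub, hd]
    omega
  obtain ⟨a, ha, ha0⟩ : ∃ a ∈ FunFld.L D, a ≠ 0 := by
    refine (Submodule.ne_bot_iff _).1 fun e => ?_
    rw [FunFld.ell, e, finrank_bot] at hell
    omega
  have haA : a ∈ affineRing P := mem_affineRing_of_mem P
    (L_mono (sub_le_self _ (poleDiv_nonneg hK x)) ha)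
  have hax : a * x ∈ affineRing P := mem_affineRing_of_mem P (n := n) (by
    have := W4c6gradedringsgw.mul_mem_L ha (mem_L_poleDiv (k := k) hK x)
    rwa [sub_add_cancel] at this)
  refine ⟨⟨a * x, hax⟩, ⟨a, haA⟩, ?_⟩
  show x = a * x / a
  exact (mul_div_cancel_left₀ x ha0).symm

theorem fg_sectRing :
    Algebra.FiniteType k (sectRing (Finsupp.single P 1 : FunFld.Divisor k K)) := by
  classical
  let D : FunFld.Divisor k K := Finsupp.single P 1
  have hfinH := finite_minGens hK P
  haveI : Fintype (minGens (poleOrders P)) := hfinH.fintype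
  have h1L : (1 : K) ∈ FunFld.L (Finsupp.single P ((1 : ℕ) : ℤ)) := by
    refine L_mono (single_le_of_le P zero_le_one) ?_
    rw [Nat.cast_zero, Finsupp.single_zero, ← map_one (algebraMap k K)]
    exact algebraMap_mem_L_zero 1
  let t : sectRing D := ⟨monomial 1 1, monomial_mem P h1L⟩
  choose z hz hz1 using fun h : minGens (poleOrders P) => exists_lc_one hK P h.2.1
  let m : minGens (poleOrders P) → sectRing D :=
    fun h => ⟨monomial (h : ℕ) (z h), monomial_mem P (hz h)⟩
  let s : Set (sectRing D) := insert t (Set.range m)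
  refine ⟨⟨(Set.toFinite s).toFinset, ?_⟩⟩
  rw [Set.Finite.coe_toFinset]
  have hmon : ∀ (n : ℕ) (f : K) (hf : f ∈ FunFld.L (Finsupp.single P (n : ℤ))),
      (⟨monomial n f, monomial_mem P hf⟩ : sectRing D) ∈ Algebra.adjoin k s := by
    intro n
    induction n using Nat.strong_induction_on with
    | _ n ih =>
      intro f hf
      rcases eq_or_ne n 0 with rfl | hn
      · have hf' := hf
        rw [Nat.cast_zero, Finsupp.single_zero, L_zero hK, Submodule.mem_one] at hf'
        obtain ⟨c, rfl⟩ := hf'
        rw [show (⟨monomial 0 (algebraMap k K c), monomial_mem P hf⟩ : sectRing D) =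
          algebraMap k _ c from Subtype.ext (by
            show monomial 0 (algebraMap k K c) = algebraMap k K[X] c
            rw [Polynomial.algebraMap_apply, monomial_zero_left])]
        exact Subalgebra.algebraMap_mem _ _
      have hlow : ∀ (f : K) (hf : f ∈ FunFld.L (Finsupp.single P (n : ℤ))),
          f ∈ FunFld.L (Finsupp.single P ((n : ℤ) - 1)) →
          (⟨monomial n f, monomial_mem P hf⟩ : sectRing D) ∈ Algebra.adjoin k s := by
        intro f hf hf'
        obtain ⟨n', rfl⟩ := Nat.exists_eq_succ_of_ne_zero hn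
        rw [Nat.cast_succ, add_sub_cancel_right] at hf'
        have e : (⟨monomial (n' + 1) f, monomial_mem P hf⟩ : sectRing D) =
            ⟨monomial n' f, monomial_mem P hf'⟩ * t := Subtype.ext (by
          show monomial (n' + 1) f = monomial n' f * monomial 1 1
          rw [monomial_mul_monomial, mul_one])
        rw [e]
        exact mul_mem (ih n' (Nat.lt_succ_self _) f hf') (Algebra.subset_adjoin (Set.mem_insert _ _))
      by_cases h : lc P n f = 0
      · exact hlow f hf ((lc_eq_zero_iff hK P hf).1 h)
      · obtain ⟨g, hg', n', hn', e⟩ := exists_minGen (zero_mem_poleOrders hK P)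
          (fun a ha b hb => add_mem_poleOrders hK P ha hb) n
          (mem_poleOrders_of_lc_ne_zero hK P hf h) hn
        obtain ⟨w, hw, hw1⟩ := exists_lc_one hK P hn'
        have hcw : lc P n f • w ∈ FunFld.L (Finsupp.single P (n' : ℤ)) := Submodule.smul_mem _ _ hw
        subst e
        have hprod := mul_mem_single P (hz ⟨g, hg'⟩) hcw
        rw [← Nat.cast_add] at hprod
        have hdiff : f - z ⟨g, hg'⟩ * (lc P (g + n') f • w) ∈
            FunFld.L (Finsupp.single P (((g + n' : ℕ) : ℤ) - 1)) := by
          rw [← lc_eq_zero_iff hK P (sub_mem hf hprod), sub_eq_add_neg, lc_add hK P hf (neg_mem hprod),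
            ← neg_one_smul k (z ⟨g, hg'⟩ * _), lc_smul hK P _ hprod, lc_mul hK P (hz ⟨g, hg'⟩) hcw,
            hz1, lc_smul hK P _ hw, hw1]
          ring
        have e : (⟨monomial (g + n') f, monomial_mem P hf⟩ : sectRing D) =
            ⟨monomial (g + n') (f - z ⟨g, hg'⟩ * (lc P (g + n') f • w)),
              monomial_mem P (sub_mem hf hprod)⟩ +
            m ⟨g, hg'⟩ * ⟨monomial n' (lc P (g + n') f • w), monomial_mem P hcw⟩ := Subtype.ext (by
          show monomial (g + n') f = monomial (g + n') (f - z ⟨g, hg'⟩ * (lc P (g + n') f • w)) +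
            monomial g (z ⟨g, hg'⟩) * monomial n' (lc P (g + n') f • w)
          rw [monomial_mul_monomial, ← map_add, sub_add_cancel])
        rw [e]
        have hgn : n' < g + n' := by
          have := hg'.2.1
          omega
        exact add_mem (hlow _ (sub_mem hf hprod) hdiff)
          (mul_mem (Algebra.subset_adjoin (Set.mem_insert_of_mem _ ⟨_, rfl⟩)) (ih n' hgn _ hcw))
  refine eq_top_iff.2 fun p _ => ?_
  have hp' : p = ∑ n ∈ Finset.range ((p : K[X]).natDegree + 1),
      (⟨monomial n ((p : K[X]).coeff n), monomial_mem P ((mem_sect P).1 p.2 n)⟩ : sectRing D) :=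
    Subtype.ext (by
      rw [AddSubmonoidClass.coe_finset_sum]
      exact (p : K[X]).as_sum_range)
  rw [hp']
  exact sum_mem fun n _ => hmon n _ ((mem_sect P).1 p.2 n)

theorem isNoetherianRing_sectRing :
    IsNoetherianRing (sectRing (Finsupp.single P 1 : FunFld.Divisor k K)) := by
  haveI := fg_sectRing hK P
  exact Algebra.FiniteType.isNoetherianRing k _

omit hK in
theorem eval_one_mem (p : sectRing (Finsupp.single P 1 : FunFld.Divisor k K)) :
    ((Polynomial.aeval (1 : K)).restrictScalars k).comp
      (sectRing (Finsupp.single P 1 : FunFld.Divisor k K)).val p ∈ affineRing P := by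
  show Polynomial.aeval (1 : K) (p : K[X]) ∈ _
  rw [aeval_eq_sum_range]
  refine sum_mem fun n _ => ?_
  rw [one_pow, smul_eq_mul, mul_one]
  exact mem_affineRing_of_mem P ((mem_sect P).1 p.2 n)

theorem isNoetherianRing_affineRing : IsNoetherianRing (affineRing P) := by
  haveI := isNoetherianRing_sectRing hK P
  let e : sectRing (Finsupp.single P 1 : FunFld.Divisor k K) →ₐ[k] affineRing P :=
    (((Polynomial.aeval (1 : K)).restrictScalars k).comp
      (sectRing (Finsupp.single P 1 : FunFld.Divisor k K)).val).codRestrict _ (eval_one_mem P)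
  refine isNoetherianRing_of_surjective _ _ e.toRingHom fun a => ?_
  obtain ⟨n, hn⟩ := (mem_affineRing_iff P).1 a.2
  refine ⟨⟨monomial n (a : K), monomial_mem P hn⟩, Subtype.ext ?_⟩
  show Polynomial.aeval (1 : K) (monomial n (a : K)) = a
  simp

theorem exists_sub_mul_mem {m : ℕ} {z : K} (hz : z ∈ FunFld.L (Finsupp.single P (m : ℤ)))
    (hlc : lc P m z ≠ 0) (n : ℕ) :
    ∀ f ∈ FunFld.L (Finsupp.single P (n : ℤ)), ∃ a ∈ affineRing P,
      f - z * a ∈ FunFld.L (Finsupp.single P ((m + 2 * FunFld.genus k K + 1 : ℕ) : ℤ)) := by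
  induction n using Nat.strong_induction_on with
  | _ n ih =>
    intro f hf
    by_cases hn : n ≤ m + 2 * FunFld.genus k K + 1
    · exact ⟨0, zero_mem _, by rw [mul_zero, sub_zero]; exact L_mono (single_le_of_le P hn) hf⟩
    obtain ⟨j, rfl⟩ : ∃ j, n = m + j := ⟨n - m, by omega⟩
    obtain ⟨w, hw, hw1⟩ := exists_lc_one hK P (mem_poleOrders_of_large hK P (n := j) (by omega) (by omega))
    let c : k := lc P (m + j) f / lc P m z
    have hcw : c • w ∈ FunFld.L (Finsupp.single P (j : ℤ)) := Submodule.smul_mem _ _ hw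
    have hprod := mul_mem_single P hz hcw
    rw [← Nat.cast_add] at hprod
    have hdiff : f - z * (c • w) ∈ FunFld.L (Finsupp.single P (((m + j : ℕ) : ℤ) - 1)) := by
      rw [← lc_eq_zero_iff hK P (sub_mem hf hprod), sub_eq_add_neg, lc_add hK P hf (neg_mem hprod),
        ← neg_one_smul k (z * _), lc_smul hK P _ hprod, lc_mul hK P hz hcw, lc_smul hK P _ hw, hw1]
      simp only [c]
      field_simp
      ring
    rw [show ((m + j : ℕ) : ℤ) - 1 = ((m + j - 1 : ℕ) : ℤ) by omega] at hdiff
    obtain ⟨a, ha, hfa⟩ := ih (m + j - 1) (by omega) _ hdiff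
    exact ⟨c • w + a, add_mem (mem_affineRing_of_mem P hcw) ha, by rwa [mul_add, ← sub_sub]⟩

theorem dimensionLEOne_affineRing : Ring.DimensionLEOne (affineRing P) := by
  classical
  refine ⟨fun {q} hq0 hq => ?_⟩
  obtain ⟨z, hzq, hz0⟩ := (Submodule.ne_bot_iff q).1 hq0
  have hex : ∃ n : ℕ, (z : K) ∈ FunFld.L (Finsupp.single P (n : ℤ)) := (mem_affineRing_iff P).1 z.2
  let m := Nat.find hex
  have hzm : (z : K) ∈ FunFld.L (Finsupp.single P (m : ℤ)) := Nat.find_spec hex
  have hlc : lc P m (z : K) ≠ 0 := fun h => by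
    have h' := (lc_eq_zero_iff hK P hzm).1 h
    rcases Nat.eq_zero_or_pos m with h0 | h0
    · rw [h0, Nat.cast_zero, zero_sub, L_eq_bot_of_deg_neg hK (by
        rw [deg_single, H23LinSer.deg_eq_one hK P]; norm_num), Submodule.mem_bot] at h'
      exact hz0 (Subtype.ext h')
    · rw [show (m : ℤ) - 1 = ((m - 1 : ℕ) : ℤ) by omega] at h'
      exact Nat.find_min hex (by omega : m - 1 < m) h'
  let V := FunFld.L (Finsupp.single P ((m + 2 * FunFld.genus k K + 1 : ℕ) : ℤ) : FunFld.Divisor k K)
  haveI : FiniteDimensional k V := finiteDimensional_L hK _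
  let φ : V →ₗ[k] affineRing P :=
    V.subtype.codRestrict (Subalgebra.toSubmodule (affineRing P)) fun v => mem_affineRing_of_mem P v.2
  let π : affineRing P →ₐ[k] affineRing P ⧸ q := Ideal.Quotient.mkₐ k q
  haveI : Module.Finite k (affineRing P ⧸ q) := by
    refine Module.Finite.of_surjective (π.toLinearMap ∘ₗ φ) fun y => ?_
    obtain ⟨f, rfl⟩ := Ideal.Quotient.mk_surjective y
    obtain ⟨n, hn⟩ := (mem_affineRing_iff P).1 f.2
    obtain ⟨a, ha, hfa⟩ := exists_sub_mul_mem hK P hzm hlc n f hn
    refine ⟨⟨_, hfa⟩, ?_⟩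
    show Ideal.Quotient.mk q (⟨(f : K) - z * a, _⟩ : affineRing P) = Ideal.Quotient.mk q f
    rw [Ideal.Quotient.eq]
    have e : (⟨(f : K) - z * a, mem_affineRing_of_mem P hfa⟩ : affineRing P) - f = -(z * ⟨a, ha⟩) :=
      Subtype.ext (by push_cast; ring)
    rw [e]
    exact neg_mem (q.mul_mem_right _ hzq)
  haveI := hq
  haveI : Algebra.IsIntegral k (affineRing P ⧸ q) := Algebra.IsIntegral.of_finite k _
  exact Ideal.Quotient.maximal_of_isField q
    (isField_of_isIntegral_of_isField' (R := k) (Field.toIsField k))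

theorem isDedekindDomain_affineRing : IsDedekindDomain (affineRing P) := by
  haveI := isFractionRing_affineRing hK P
  rw [isDedekindDomain_iff (A := affineRing P) K]
  refine ⟨inferInstance, isNoetherianRing_affineRing hK P, dimensionLEOne_affineRing hK P,
    fun {x} hx => ⟨⟨x, fun Q hQ => ?_⟩, rfl⟩⟩
  let ι : affineRing P →+* Q.1.integer :=
    { toFun := fun a => ⟨(a : K), a.2 Q hQ⟩
      map_one' := rfl
      map_mul' := fun _ _ => rfl
      map_zero' := rfl
      map_add' := fun _ _ => rfl }
  have hx' : IsIntegral Q.1.integer x := by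
    have := hx.map_of_comp_eq ι (RingHom.id K) (by ext a; rfl)
    exact this
  exact (Valuation.integer.integers Q.1).mem_of_integral hx'

/-- The section ring maps to polynomials over the affine ring. -/
noncomputable def toAffinePoly :
    sectRing (Finsupp.single P 1 : FunFld.Divisor k K) →+* (affineRing P)[X] where
  toFun p := (p : K[X]).toSubring (affineRing P).toSubring (by
    intro c hc
    obtain ⟨n, -, rfl⟩ := Polynomial.mem_coeffs_iff.1 (Finset.mem_coe.1 hc)
    exact mem_affineRing_of_mem P ((mem_sect P).1 p.2 n))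
  map_one' := Polynomial.ext fun n => Subtype.ext (by simp [coeff_one, apply_ite])
  map_mul' p q := by
    refine Polynomial.map_injective (affineRing P).toSubring.subtype Subtype.val_injective ?_
    rw [Polynomial.map_mul]
    simp only [Polynomial.map_toSubring]
    rfl
  map_zero' := Polynomial.ext fun n => Subtype.ext (by simp)
  map_add' p q := Polynomial.ext fun n => Subtype.ext (by simp)

omit hK in
theorem coeff_toAffinePoly (p : sectRing (Finsupp.single P 1 : FunFld.Divisor k K)) (n : ℕ) :
    ((toAffinePoly P p).coeff n : K) = (p : K[X]).coeff n :=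
  Polynomial.coeff_toSubring (T := (affineRing P).toSubring) (hp := by
    intro c hc
    obtain ⟨n, -, rfl⟩ := Polynomial.mem_coeffs_iff.1 (Finset.mem_coe.1 hc)
    exact mem_affineRing_of_mem P ((mem_sect P).1 p.2 n))

omit hK in
theorem isLocalization_away_sect (t : sectRing (Finsupp.single P 1 : FunFld.Divisor k K))
    (ht : (t : K[X]) = X) :
    letI : Algebra (sectRing (Finsupp.single P 1 : FunFld.Divisor k K)) (LaurentPolynomial (affineRing P)) :=
      (Polynomial.toLaurent.comp (toAffinePoly P)).toAlgebra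
    IsLocalization.Away t (LaurentPolynomial (affineRing P)) := by
  let R := sectRing (Finsupp.single P 1 : FunFld.Divisor k K)
  letI : Algebra R (LaurentPolynomial (affineRing P)) :=
    (Polynomial.toLaurent.comp (toAffinePoly P)).toAlgebra
  have halg : ∀ b : R, algebraMap R (LaurentPolynomial (affineRing P)) b =
      Polynomial.toLaurent (toAffinePoly P b) := fun _ => rfl
  have hx : algebraMap R (LaurentPolynomial (affineRing P)) t = LaurentPolynomial.T (1 : ℤ) := by
    rw [halg, show toAffinePoly P t = X from Polynomial.ext fun n => Subtype.ext (by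
      rw [coeff_toAffinePoly, ht, coeff_X, coeff_X]; split_ifs <;> rfl), Polynomial.toLaurent_X]
  refine IsLocalization.Away.mk _ ?_ (fun z => ?_) (fun a b hab => ⟨0, ?_⟩)
  · rw [hx]; exact LaurentPolynomial.isUnit_T _
  · obtain ⟨n, f', hf⟩ := LaurentPolynomial.exists_T_pow z
    choose j hj using fun i => (mem_affineRing_iff P).1 (f'.coeff i).2
    let M := (Finset.range (f'.natDegree + 1)).sup j
    have hmem : X ^ M * f'.map (affineRing P).val.toRingHom ∈ R := by
      rw [mem_sect]
      intro i
      rw [coeff_X_pow_mul']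
      split_ifs with hle
      · rw [coeff_map]
        show ((f'.coeff (i - M) : affineRing P) : K) ∈ _
        by_cases hd : i - M ≤ f'.natDegree
        · have : j (i - M) ≤ M := Finset.le_sup (f := j) (Finset.mem_range.2 (by omega))
          exact L_mono (single_le_of_le P (by omega)) (hj (i - M))
        · rw [coeff_eq_zero_of_natDegree_lt (by omega), ZeroMemClass.coe_zero]
          exact zero_mem _
      · exact zero_mem _
    refine ⟨M + n, ⟨_, hmem⟩, ?_⟩
    have e : toAffinePoly P (⟨_, hmem⟩ : R) = X ^ M * f' := Polynomial.ext fun i => Subtype.ext (by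
      rw [coeff_toAffinePoly, coeff_X_pow_mul', coeff_X_pow_mul']
      split_ifs
      · rw [coeff_map]; rfl
      · rfl)
    rw [hx, halg, e, map_mul, Polynomial.toLaurent_X_pow, hf, LaurentPolynomial.T_pow,
      show LaurentPolynomial.T (M : ℤ) * (z * LaurentPolynomial.T (n : ℤ)) =
        z * (LaurentPolynomial.T (M : ℤ) * LaurentPolynomial.T (n : ℤ)) by ring,
      ← LaurentPolynomial.T_add]
    congr 2
    push_cast
    ring
  · rw [halg, halg] at hab
    have h := Polynomial.toLaurent_injective hab
    rw [show a = b from Subtype.ext (Polynomial.ext fun i => by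
      rw [← coeff_toAffinePoly P, ← coeff_toAffinePoly P, h])]

theorem gor_of_not_mem_sect (t : sectRing (Finsupp.single P 1 : FunFld.Divisor k K))
    (ht : (t : K[X]) = X) (q : Ideal (sectRing (Finsupp.single P 1 : FunFld.Divisor k K))) [q.IsPrime]
    (hq : t ∉ q) : LocCoh.IsGorensteinLocalRing (Localization.AtPrime q) := by
  let R := sectRing (Finsupp.single P 1 : FunFld.Divisor k K)
  letI : Algebra R (LaurentPolynomial (affineRing P)) :=
    (Polynomial.toLaurent.comp (toAffinePoly P)).toAlgebra
  haveI := isLocalization_away_sect P t ht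
  haveI := isDedekindDomain_affineRing hK P
  haveI : IsRegularRing (LaurentPolynomial (affineRing P)) :=
    H02CA.isRegularRing_of_isLocalization (S := (affineRing P)[X])
      (Submonoid.powers (X : (affineRing P)[X]))
  have hd : Disjoint (Submonoid.powers t : Set R) (q : Set R) := by
    rw [Set.disjoint_left]
    rintro _ ⟨j, rfl⟩ hj
    exact hq (‹q.IsPrime›.mem_of_pow_mem j hj)
  haveI := IsLocalization.isPrime_of_isPrime_disjoint (Submonoid.powers t)
    (LaurentPolynomial (affineRing P)) q ‹_› hd
  have e := IsLocalization.comap_map_of_isPrime_disjoint (Submonoid.powers t)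
    (LaurentPolynomial (affineRing P)) ‹q.IsPrime› hd
  refine (H02CA.GorFlat.gor_congr e).1
    ((H02CA.GorFlat.gor_localization_iff (Submonoid.powers t) (LaurentPolynomial (affineRing P))
      (q.map (algebraMap _ (LaurentPolynomial (affineRing P))))).1 ?_)
  exact (H02CA.GorFlat.isGorensteinRing_of_isRegularRing
    (LaurentPolynomial (affineRing P))).isGorensteinLocalRing_localization _

end Groth.Agent.H1Sect
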