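import Groth.Prelude.Def_W4c6gradedringsgwSect
import Groth.Agent.H23Curve.Basic
import Mathlib

/-!
# The section ring of a point on a curve and its Weierstrass semigroup

Leading coefficients at `P` give a `k`-algebra map `sectRing P → k[X]`, whose kernel is generated by
the degree one section and whose image is the semigroup algebra of the pole orders.
-/

set_option autoImplicit false
set_option linter.style.haveILetI false
set_option linter.unusedSectionVars false

universe u

open Polynomial

namespace Groth.Agent.H1Sect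

open Groth.Agent.H23FunFld W4c6gradedringsgw

variable {k K : Type u} [Field k] [IsAlgClosed k] [Field K] [Algebra k K]
  (hK : FunFld.IsFunctionField k K) (P : FunFld.Place k K)

theorem smul_point (n : ℤ) :
    n • (Finsupp.single P 1 : FunFld.Divisor k K) = Finsupp.single P n := by
  rw [Finsupp.smul_single, smul_eq_mul, mul_one]

theorem mem_sect {p : K[X]} :
    p ∈ sectRing (Finsupp.single P 1 : FunFld.Divisor k K) ↔
      ∀ n : ℕ, p.coeff n ∈ FunFld.L (Finsupp.single P (n : ℤ)) := by
  show (∀ n : ℕ, p.coeff n ∈ FunFld.L ((n : ℤ) • (Finsupp.single P 1 : FunFld.Divisor k K))) ↔ _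
  exact forall_congr' fun n => by rw [smul_point]

theorem monomial_mem {n : ℕ} {f : K} (hf : f ∈ FunFld.L (Finsupp.single P (n : ℤ))) :
    monomial n f ∈ sectRing (Finsupp.single P 1 : FunFld.Divisor k K) := by
  rw [mem_sect]
  intro m
  rw [coeff_monomial]
  split_ifs with h
  · exact h ▸ hf
  · exact zero_mem _

theorem mul_mem_single {m n : ℤ} {x y : K} (hx : x ∈ FunFld.L (Finsupp.single P m))
    (hy : y ∈ FunFld.L (Finsupp.single P n)) : x * y ∈ FunFld.L (Finsupp.single P (m + n)) := by
  rw [Finsupp.single_add]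
  exact W4c6gradedringsgw.mul_mem_L hx hy

theorem mem_pred_iff {n : ℤ} {f : K} (hf : f ∈ FunFld.L (Finsupp.single P n)) :
    f ∈ FunFld.L (Finsupp.single P (n - 1)) ↔ P.1 f ≤ WithZero.exp (n - 1) := by
  refine ⟨fun h => by have := h P; rwa [Finsupp.single_eq_same] at this, fun h Q => ?_⟩
  rcases eq_or_ne Q P with rfl | hQ
  · rwa [Finsupp.single_eq_same]
  · rw [Finsupp.single_eq_of_ne hQ]
    have := hf Q
    rwa [Finsupp.single_eq_of_ne hQ] at this

include hK

theorem zero_mem_poleOrders : 0 ∈ poleOrders P := by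
  show FunFld.ell _ = FunFld.ell _ + 1
  rw [smul_point, smul_point, Nat.cast_zero, Finsupp.single_zero, ell_zero hK, zero_sub]
  rw [show FunFld.ell (Finsupp.single P (-1 : ℤ)) = 0 by
    rw [FunFld.ell, L_eq_bot_of_deg_neg hK, finrank_bot]
    rw [deg_single, H23LinSer.deg_eq_one hK P]; norm_num]

theorem mem_poleOrders_iff {n : ℕ} :
    n ∈ poleOrders P ↔
      ∃ z : K, z ≠ 0 ∧ z ∈ FunFld.L (Finsupp.single P (n : ℤ)) ∧ P.ord z = -(n : ℤ) := by
  show FunFld.ell _ = FunFld.ell _ + 1 ↔ _
  rw [smul_point, smul_point]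
  refine ⟨fun h => H23Curve.exists_ord_of_ne hK fun e => ?_, fun ⟨z, hz, hzn, ho⟩ => ?_⟩
  · rw [FunFld.ell, FunFld.ell, e] at h
    omega
  · have h1 := H23Curve.ell_lt_of_ord hK hz hzn ho
    have h2 := H23Curve.ell_le_succ hK (H23LinSer.deg_eq_one hK P)
      (Finsupp.single P ((n : ℤ) - 1) : FunFld.Divisor k K)
    rw [← Finsupp.single_add, sub_add_cancel] at h2
    omega

theorem add_mem_poleOrders {m n : ℕ} (hm : m ∈ poleOrders P) (hn : n ∈ poleOrders P) :
    m + n ∈ poleOrders P := by
  rw [mem_poleOrders_iff hK P] at hm hn ⊢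
  obtain ⟨z, hz, hzm, hzo⟩ := hm
  obtain ⟨w, hw, hwn, hwo⟩ := hn
  refine ⟨z * w, mul_ne_zero hz hw, ?_, ?_⟩
  · rw [Nat.cast_add]; exact mul_mem_single P hzm hwn
  · rw [ord_mul P hz hw, hzo, hwo]; omega

theorem mem_closure_poleOrders {n : ℕ} :
    n ∈ AddSubmonoid.closure (poleOrders P) ↔ n ∈ poleOrders P := by
  refine ⟨fun h => ?_, fun h => AddSubmonoid.subset_closure h⟩
  induction h using AddSubmonoid.closure_induction with
  | mem x hx => exact hx
  | zero => exact zero_mem_poleOrders hK P
  | add x y _ _ hx hy => exact add_mem_poleOrders hK P hx hy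

/-- For positive genus, `L(P) = k`. -/
theorem L_one (hg : 1 ≤ FunFld.genus k K) :
    FunFld.L (Finsupp.single P (1 : ℤ)) = FunFld.L (0 : FunFld.Divisor k K) := by
  haveI := finiteDimensional_L hK (Finsupp.single P (1 : ℤ))
  refine (Submodule.eq_of_le_of_finrank_le (L_mono (Finsupp.single_nonneg.2 zero_le_one)) ?_).symm
  have h1 := H23LinSer.ell_le_one_of_deg_le_one hK hg (E := Finsupp.single P (1 : ℤ))
    (by rw [deg_single, H23LinSer.deg_eq_one hK P]; norm_num)
  have h2 := ell_zero hK
  unfold FunFld.ell at h1 h2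
  omega

theorem exists_const_of_mem_L_one (hg : 1 ≤ FunFld.genus k K) {a : K}
    (ha : a ∈ FunFld.L (Finsupp.single P (1 : ℤ))) : ∃ c : k, algebraMap k K c = a := by
  rw [L_one hK P hg, L_zero hK, Submodule.mem_one] at ha
  exact ha

theorem one_not_mem_poleOrders (hg : 1 ≤ FunFld.genus k K) : 1 ∉ poleOrders P := by
  intro h
  obtain ⟨z, hz, hzm, hzo⟩ := (mem_poleOrders_iff hK P).1 h
  obtain ⟨c, rfl⟩ := exists_const_of_mem_L_one hK P hg (by simpa using hzm)
  rw [ord_const] at hzo
  omega

theorem mem_poleOrders_of_large {n : ℕ} (hn : 2 * FunFld.genus k K ≤ n) (hn0 : 0 < n) :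
    n ∈ poleOrders P := by
  show FunFld.ell _ = FunFld.ell _ + 1
  rw [smul_point, smul_point]
  have hd : ∀ m : ℤ, FunFld.Divisor.deg (Finsupp.single P m : FunFld.Divisor k K) = m := fun m => by
    rw [deg_single, H23LinSer.deg_eq_one hK P]; simp
  have h1 := ell_of_deg_large hK (D := Finsupp.single P (n : ℤ)) (by rw [hd]; omega)
  have h2 := ell_of_deg_large hK (D := Finsupp.single P ((n : ℤ) - 1)) (by rw [hd]; omega)
  rw [hd] at h1 h2
  omega

omit hK

/-- A chosen uniformizer at `P`. -/
noncomputable def unif : K := (exists_val_eq P (-1)).choose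

theorem unif_ne_zero : unif P ≠ 0 := (exists_val_eq P (-1)).choose_spec.1

theorem val_unif : P.1 (unif P) = WithZero.exp (-1 : ℤ) := (exists_val_eq P (-1)).choose_spec.2

theorem val_unif_pow (n : ℕ) : P.1 (unif P ^ n) = WithZero.exp (-(n : ℤ)) := by
  rw [map_pow, val_unif, ← WithZero.exp_nsmul]
  congr 1
  simp

theorem val_mul_pow_le {n : ℕ} {f : K} (hf : f ∈ FunFld.L (Finsupp.single P (n : ℤ))) :
    P.1 (f * unif P ^ n) ≤ 1 := by
  have h := hf P
  rw [Finsupp.single_eq_same] at h
  rw [map_mul, val_unif_pow]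
  refine (mul_le_mul' h le_rfl).trans_eq ?_
  rw [← WithZero.exp_add, add_neg_cancel, WithZero.exp_zero]

theorem val_mul_pow_lt_iff {n : ℕ} {f : K} (hf : f ∈ FunFld.L (Finsupp.single P (n : ℤ))) :
    P.1 (f * unif P ^ n) < 1 ↔ f ∈ FunFld.L (Finsupp.single P ((n : ℤ) - 1)) := by
  rcases eq_or_ne f 0 with rfl | hf0
  · simp
  rw [mem_pred_iff P hf, val_lt_one_iff P (mul_ne_zero hf0 (pow_ne_zero _ (unif_ne_zero P))),
    val_le_exp_iff P hf0]
  have : P.ord (unif P ^ n) = (n : ℤ) := by
    simp [FunFld.Place.ord, val_unif_pow]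
  rw [ord_mul P hf0 (pow_ne_zero _ (unif_ne_zero P)), this]
  omega

theorem eq_of_val_sub_lt {x : K} {c c' : k} (h : P.1 (x - algebraMap k K c) < 1)
    (h' : P.1 (x - algebraMap k K c') < 1) : c = c' := by
  by_contra hne
  have h1 := P.1.map_sub (x - algebraMap k K c') (x - algebraMap k K c)
  rw [show x - algebraMap k K c' - (x - algebraMap k K c) = algebraMap k K (c - c') by
    rw [map_sub]; ring, val_const P (sub_ne_zero.2 hne)] at h1
  exact lt_irrefl _ (h1.trans_lt (max_lt h' h))

open scoped Classical in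
/-- The leading coefficient of a section of `L(nP)` at `P`. -/
noncomputable def lc (n : ℕ) (f : K) : k :=
  if h : ∃ c : k, P.1 (f * unif P ^ n - algebraMap k K c) < 1 then h.choose else 0

theorem lc_eq {n : ℕ} {f : K} {c : k} (h : P.1 (f * unif P ^ n - algebraMap k K c) < 1) :
    lc P n f = c := by
  have h' : ∃ c : k, P.1 (f * unif P ^ n - algebraMap k K c) < 1 := ⟨c, h⟩
  rw [lc, dif_pos h']
  exact eq_of_val_sub_lt P h'.choose_spec h

include hK

theorem lc_spec {n : ℕ} {f : K} (hf : f ∈ FunFld.L (Finsupp.single P (n : ℤ))) :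
    P.1 (f * unif P ^ n - algebraMap k K (lc P n f)) < 1 := by
  obtain ⟨c, hc⟩ := H23LinSer.exists_sub_const hK (val_mul_pow_le P hf)
  rw [lc_eq P hc]
  exact hc

theorem lc_eq_zero_iff {n : ℕ} {f : K} (hf : f ∈ FunFld.L (Finsupp.single P (n : ℤ))) :
    lc P n f = 0 ↔ f ∈ FunFld.L (Finsupp.single P ((n : ℤ) - 1)) := by
  rw [← val_mul_pow_lt_iff P hf]
  refine ⟨fun h => ?_, fun h => lc_eq P (by rwa [map_zero, sub_zero])⟩
  have := lc_spec hK P hf
  rwa [h, map_zero, sub_zero] at this

theorem lc_add {n : ℕ} {f g : K} (hf : f ∈ FunFld.L (Finsupp.single P (n : ℤ)))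
    (hg : g ∈ FunFld.L (Finsupp.single P (n : ℤ))) : lc P n (f + g) = lc P n f + lc P n g := by
  refine lc_eq P ?_
  rw [map_add, show (f + g) * unif P ^ n - (algebraMap k K (lc P n f) + algebraMap k K (lc P n g)) =
    (f * unif P ^ n - algebraMap k K (lc P n f)) + (g * unif P ^ n - algebraMap k K (lc P n g)) by ring]
  exact (P.1.map_add _ _).trans_lt (max_lt (lc_spec hK P hf) (lc_spec hK P hg))

theorem lc_mul {m n : ℕ} {f g : K} (hf : f ∈ FunFld.L (Finsupp.single P (m : ℤ)))
    (hg : g ∈ FunFld.L (Finsupp.single P (n : ℤ))) :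
    lc P (m + n) (f * g) = lc P m f * lc P n g := by
  refine lc_eq P ?_
  rw [map_mul, show f * g * unif P ^ (m + n) - algebraMap k K (lc P m f) * algebraMap k K (lc P n g) =
    (f * unif P ^ m - algebraMap k K (lc P m f)) * (g * unif P ^ n) +
      algebraMap k K (lc P m f) * (g * unif P ^ n - algebraMap k K (lc P n g)) by
    rw [pow_add]; ring]
  refine (P.1.map_add _ _).trans_lt (max_lt ?_ ?_)
  · rw [map_mul]
    exact (mul_le_of_le_one_right' (val_mul_pow_le P hg)).trans_lt (lc_spec hK P hf)
  · rw [map_mul]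
    exact (mul_le_of_le_one_left' (P.2.1 _)).trans_lt (lc_spec hK P hg)

theorem lc_zero_right (n : ℕ) : lc P n (0 : K) = 0 :=
  lc_eq P (by simp)

omit hK in
theorem lc_const (c : k) : lc P 0 (algebraMap k K c) = c :=
  lc_eq P (by simp)

theorem lc_smul {n : ℕ} {f : K} (c : k) (hf : f ∈ FunFld.L (Finsupp.single P (n : ℤ))) :
    lc P n (c • f) = c * lc P n f := by
  have hc : algebraMap k K c ∈ FunFld.L (Finsupp.single P ((0 : ℕ) : ℤ)) := by
    rw [Nat.cast_zero, Finsupp.single_zero]; exact algebraMap_mem_L_zero c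
  rw [Algebra.smul_def]
  have := lc_mul hK P hc hf
  rwa [zero_add, lc_const] at this

theorem exists_lc_one {n : ℕ} (hn : n ∈ poleOrders P) :
    ∃ z : K, z ∈ FunFld.L (Finsupp.single P (n : ℤ)) ∧ lc P n z = 1 := by
  obtain ⟨z, hz, hzn, hzo⟩ := (mem_poleOrders_iff hK P).1 hn
  have h0 : lc P n z ≠ 0 := fun h => by
    have := (val_le_exp_iff P hz).1 ((mem_pred_iff P hzn).1 ((lc_eq_zero_iff hK P hzn).1 h))
    omega
  exact ⟨(lc P n z)⁻¹ • z, Submodule.smul_mem _ _ hzn, by rw [lc_smul hK P _ hzn, inv_mul_cancel₀ h0]⟩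

theorem mem_poleOrders_of_lc_ne_zero {n : ℕ} {f : K} (hf : f ∈ FunFld.L (Finsupp.single P (n : ℤ)))
    (h : lc P n f ≠ 0) : n ∈ poleOrders P := by
  refine (mem_poleOrders_iff hK P).2 (H23Curve.exists_ord_of_ne hK fun e => h ?_)
  rw [lc_eq_zero_iff hK P hf, ← e]
  exact hf

/-- The leading coefficient map on the section ring. -/
noncomputable def Phi : sectRing (Finsupp.single P 1 : FunFld.Divisor k K) →ₐ[k] k[X] where
  toFun p := ∑ n ∈ Finset.range ((p : K[X]).natDegree + 1), monomial n (lc P n ((p : K[X]).coeff n))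
  map_one' := by
    simp only [OneMemClass.coe_one, natDegree_one, zero_add, Finset.sum_range_one, coeff_one_zero]
    rw [show (1 : K) = algebraMap k K 1 by simp, lc_const, monomial_zero_left, map_one]
  map_mul' p q := by
    have hc : ∀ (p : sectRing (Finsupp.single P 1 : FunFld.Divisor k K)) (m : ℕ),
        (∑ n ∈ Finset.range ((p : K[X]).natDegree + 1), monomial n (lc P n ((p : K[X]).coeff n))).coeff m =
          lc P m ((p : K[X]).coeff m) := by
      intro p m
      rw [finset_sum_coeff]
      simp only [coeff_monomial, Finset.sum_ite_eq', Finset.mem_range]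
      split_ifs with h
      · rfl
      · rw [coeff_eq_zero_of_natDegree_lt (by omega), lc_zero_right hK P]
    ext m
    rw [hc, coeff_mul]
    simp only [MulMemClass.coe_mul, hc, coeff_mul]
    have hind : ∀ (s : Finset (ℕ × ℕ)), (∀ x ∈ s, x.1 + x.2 = m) →
        ∑ x ∈ s, (p : K[X]).coeff x.1 * (q : K[X]).coeff x.2 ∈ FunFld.L (Finsupp.single P (m : ℤ)) ∧
        lc P m (∑ x ∈ s, (p : K[X]).coeff x.1 * (q : K[X]).coeff x.2) =
          ∑ x ∈ s, lc P x.1 ((p : K[X]).coeff x.1) * lc P x.2 ((q : K[X]).coeff x.2) := by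
      classical
      intro s
      induction s using Finset.induction_on with
      | empty => exact fun _ => ⟨by simp, by simpa using lc_zero_right hK P m⟩
      | insert a s ha ih =>
        intro hs
        obtain ⟨h1, h2⟩ := ih fun x hx => hs x (Finset.mem_insert_of_mem hx)
        have hp := (mem_sect P).1 p.2 a.1
        have hq := (mem_sect P).1 q.2 a.2
        have ham := hs a (Finset.mem_insert_self _ _)
        have h3 := mul_mem_single P hp hq
        rw [← Nat.cast_add, ham] at h3
        rw [Finset.sum_insert ha, Finset.sum_insert ha]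
        refine ⟨add_mem h3 h1, ?_⟩
        rw [lc_add hK P h3 h1, h2]
        congr 1
        rw [← ham]
        exact lc_mul hK P hp hq
    exact (hind _ fun x hx => Finset.HasAntidiagonal.mem_antidiagonal.1 hx).2
  map_zero' := by simp [lc_zero_right hK P]
  map_add' p q := by
    have hc : ∀ (p : sectRing (Finsupp.single P 1 : FunFld.Divisor k K)) (m : ℕ),
        (∑ n ∈ Finset.range ((p : K[X]).natDegree + 1), monomial n (lc P n ((p : K[X]).coeff n))).coeff m =
          lc P m ((p : K[X]).coeff m) := by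
      intro p m
      rw [finset_sum_coeff]
      simp only [coeff_monomial, Finset.sum_ite_eq', Finset.mem_range]
      split_ifs with h
      · rfl
      · rw [coeff_eq_zero_of_natDegree_lt (by omega), lc_zero_right hK P]
    ext m
    rw [hc, coeff_add, hc, hc, AddMemClass.coe_add, coeff_add]
    exact lc_add hK P ((mem_sect P).1 p.2 m) ((mem_sect P).1 q.2 m)
  commutes' c := by
    simp only [Subalgebra.coe_algebraMap, Polynomial.algebraMap_apply, natDegree_C, zero_add,
      Finset.sum_range_one, coeff_C_zero]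
    rw [lc_const, monomial_zero_left]
    rfl

theorem Phi_coeff (p : sectRing (Finsupp.single P 1 : FunFld.Divisor k K)) (m : ℕ) :
    (Phi hK P p).coeff m = lc P m ((p : K[X]).coeff m) := by
  show (∑ n ∈ Finset.range ((p : K[X]).natDegree + 1), monomial n (lc P n ((p : K[X]).coeff n))).coeff m = _
  rw [finset_sum_coeff]
  simp only [coeff_monomial, Finset.sum_ite_eq', Finset.mem_range]
  split_ifs with h
  · rfl
  · rw [coeff_eq_zero_of_natDegree_lt (by omega), lc_zero_right hK P]

theorem Phi_monomial {n : ℕ} {f : K} (hf : f ∈ FunFld.L (Finsupp.single P (n : ℤ))) :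
    Phi hK P ⟨monomial n f, monomial_mem P hf⟩ = monomial n (lc P n f) := by
  ext m
  rw [Phi_coeff, coeff_monomial, coeff_monomial]
  split_ifs with h
  · rw [h]
  · exact lc_zero_right hK P m

/-- The inclusion of the semigroup algebra into `k[X]`. -/
noncomputable def semigroupToPoly :
    AddMonoidAlgebra k (AddSubmonoid.closure (poleOrders P)) →ₐ[k] k[X] :=
  AddMonoidAlgebra.lift k k[X] (AddSubmonoid.closure (poleOrders P))
    { toFun := fun h => X ^ (h.toAdd : ℕ)
      map_one' := by simp
      map_mul' := fun a b => by simp [pow_add] }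

omit hK in
theorem semigroupToPoly_single (h : AddSubmonoid.closure (poleOrders P)) (c : k) :
    semigroupToPoly P (AddMonoidAlgebra.single h c) = monomial (h : ℕ) c := by
  rw [semigroupToPoly, AddMonoidAlgebra.lift_single, ← C_mul_X_pow_eq_monomial, Polynomial.smul_eq_C_mul]
  rfl

omit hK in
theorem semigroupToPoly_injective : Function.Injective (semigroupToPoly P) := by
  classical
  intro x y hxy
  refine AddMonoidAlgebra.coeffEquiv.injective (Finsupp.ext fun h => ?_)
  show x.coeff h = y.coeff h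
  have key : ∀ z : AddMonoidAlgebra k (AddSubmonoid.closure (poleOrders P)),
      (semigroupToPoly P z).coeff (h : ℕ) = z.coeff h := by
    intro z
    induction z using AddMonoidAlgebra.induction_linear with
    | zero => simp
    | add a b ha hb => rw [map_add, Polynomial.coeff_add, ha, hb]; rfl
    | single a c =>
      rw [semigroupToPoly_single, coeff_monomial]
      show _ = (Finsupp.single a c) h
      rw [Finsupp.single_apply]
      exact if_congr Subtype.coe_inj rfl rfl
  rw [← key, ← key, hxy]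

theorem range_Phi :
    (Phi hK P).range = (semigroupToPoly P).range := by
  refine le_antisymm ?_ ?_
  · rintro _ ⟨p, rfl⟩
    show Phi hK P p ∈ _
    rw [(Phi hK P p).as_sum_range]
    refine sum_mem fun n _ => ?_
    rw [Phi_coeff]
    by_cases h : lc P n ((p : K[X]).coeff n) = 0
    · rw [h, map_zero]; exact zero_mem _
    · exact ⟨AddMonoidAlgebra.single ⟨n, AddSubmonoid.subset_closure
        (mem_poleOrders_of_lc_ne_zero hK P ((mem_sect P).1 p.2 n) h)⟩ _, semigroupToPoly_single P _ _⟩
  · rintro _ ⟨x, rfl⟩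
    show semigroupToPoly P x ∈ _
    induction x using AddMonoidAlgebra.induction_linear with
    | zero => rw [map_zero]; exact zero_mem _
    | add a b ha hb => rw [map_add]; exact add_mem ha hb
    | single a c =>
      rw [semigroupToPoly_single]
      obtain ⟨z, hz, hz1⟩ := exists_lc_one hK P ((mem_closure_poleOrders hK P).1 a.2)
      refine ⟨⟨monomial (a : ℕ) (c • z), monomial_mem P (Submodule.smul_mem _ _ hz)⟩, ?_⟩
      show Phi hK P _ = _
      rw [Phi_monomial hK P (Submodule.smul_mem _ _ hz), lc_smul hK P _ hz, hz1, mul_one]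

theorem ker_Phi {c : k} (hc : c ≠ 0) (t : sectRing (Finsupp.single P 1 : FunFld.Divisor k K))
    (ht : (t : K[X]) = C (algebraMap k K c) * X) :
    RingHom.ker (Phi hK P) = Ideal.span {t} := by
  refine le_antisymm (fun p hp => ?_) ((Ideal.span_singleton_le_iff_mem _).2 ?_)
  · have h0 : ∀ n : ℕ, (p : K[X]).coeff n ∈ FunFld.L (Finsupp.single P ((n : ℤ) - 1)) := fun n => by
      rw [← lc_eq_zero_iff hK P ((mem_sect P).1 p.2 n), ← Phi_coeff hK P, RingHom.mem_ker.1 hp,
        coeff_zero]
    have h00 : (p : K[X]).coeff 0 = 0 := by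
      have := h0 0
      rwa [Nat.cast_zero, zero_sub, L_eq_bot_of_deg_neg hK (by
        rw [deg_single, H23LinSer.deg_eq_one hK P]; norm_num), Submodule.mem_bot] at this
    refine Ideal.mem_span_singleton'.2 ⟨⟨C (algebraMap k K c⁻¹) * (p : K[X]).divX, ?_⟩, Subtype.ext ?_⟩
    · rw [mem_sect]
      intro n
      rw [coeff_C_mul, coeff_divX, ← Algebra.smul_def]
      refine Submodule.smul_mem _ _ ?_
      have := h0 (n + 1)
      rwa [Nat.cast_add, Nat.cast_one, add_sub_cancel_right] at this
    · show C (algebraMap k K c⁻¹) * (p : K[X]).divX * (t : K[X]) = p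
      conv_rhs => rw [← X_mul_divX_add (p : K[X]), h00, map_zero, add_zero]
      rw [ht, show C (algebraMap k K c⁻¹) * (p : K[X]).divX * (C (algebraMap k K c) * X) =
        C (algebraMap k K c⁻¹ * algebraMap k K c) * (X * (p : K[X]).divX) by rw [map_mul]; ring,
        ← map_mul, inv_mul_cancel₀ hc, map_one, map_one, one_mul]
  · rw [RingHom.mem_ker]
    ext n
    rw [Phi_coeff, coeff_zero, lc_eq_zero_iff hK P ((mem_sect P).1 t.2 n), ht, coeff_C_mul, coeff_X]
    split_ifs with h
    · subst h
      rw [mul_one, Nat.cast_one, sub_self, Finsupp.single_zero]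
      exact algebraMap_mem_L_zero c
    · rw [mul_zero]; exact zero_mem _

end Groth.Agent.H1Sect
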