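import Groth.Agent.H1Sect.Basic
import Mathlib

/-!
# Generators of the irrelevant ideal of the section ring of a point
-/

set_option autoImplicit false
set_option linter.style.haveILetI false
set_option linter.unusedSectionVars false

universe u

open Polynomial

namespace Groth.Agent.H1Sect

open Groth.Agent.H23FunFld W4c6gradedringsgw

/-- Every nonzero element of an additively closed set is a minimal generator plus an element. -/
theorem exists_minGen {H : Set ℕ} (h0 : 0 ∈ H) (hadd : ∀ a ∈ H, ∀ b ∈ H, a + b ∈ H) :
    ∀ n ∈ H, n ≠ 0 → ∃ h ∈ minGens H, ∃ n' ∈ H, h + n' = n := by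
  intro n
  induction n using Nat.strong_induction_on with
  | _ n ih =>
    intro hn hn0
    by_cases hmin : ∀ a ∈ H, ∀ b ∈ H, a ≠ 0 → b ≠ 0 → a + b ≠ n
    · exact ⟨n, ⟨hn, hn0, hmin⟩, 0, h0, add_zero n⟩
    · push Not at hmin
      obtain ⟨a, ha, b, hb, ha0, hb0, hab⟩ := hmin
      obtain ⟨h, hh, n', hn', e⟩ := ih a (by omega) ha ha0
      exact ⟨h, hh, n' + b, hadd _ hn' _ hb, by omega⟩

variable {k K : Type u} [Field k] [IsAlgClosed k] [Field K] [Algebra k K]
  (hK : FunFld.IsFunctionField k K) (P : FunFld.Place k K)

include hK

theorem finite_minGens : (minGens (poleOrders P)).Finite := by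
  refine (Set.finite_le_nat (4 * FunFld.genus k K + 1)).subset fun h hh => ?_
  by_contra hlt
  rw [Set.mem_setOf_eq] at hlt
  refine hh.2.2 (2 * FunFld.genus k K + 1) ?_ (h - (2 * FunFld.genus k K + 1)) ?_ (by omega)
    (by omega) (by omega)
  · exact mem_poleOrders_of_large hK P (by omega) (by omega)
  · exact mem_poleOrders_of_large hK P (by omega) (by omega)

/-- The embedding dimension of the section ring is that of the semigroup plus one. -/
theorem spanFinrank_irrelevant (hg : 1 ≤ FunFld.genus k K) :
    (RingHom.ker (Polynomial.constantCoeff.comp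
      (sectRing (Finsupp.single P 1 : FunFld.Divisor k K)).val.toRingHom)).spanFinrank =
      (minGens (poleOrders P)).ncard + 1 := by
  classical
  let D : FunFld.Divisor k K := Finsupp.single P 1
  let I : Ideal (sectRing D) := RingHom.ker (Polynomial.constantCoeff.comp (sectRing D).val.toRingHom)
  show I.spanFinrank = _
  have hI : ∀ p : sectRing D, p ∈ I ↔ (p : K[X]).coeff 0 = 0 := fun p => Iff.rfl
  have hfinH := finite_minGens hK P
  haveI : Fintype (minGens (poleOrders P)) := hfinH.fintype
  have h1L : (1 : K) ∈ FunFld.L (Finsupp.single P ((1 : ℕ) : ℤ)) := by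
    rw [Nat.cast_one, L_one hK P hg, ← map_one (algebraMap k K)]
    exact algebraMap_mem_L_zero 1
  let t : sectRing D := ⟨monomial 1 1, monomial_mem P h1L⟩
  choose z hz hz1 using fun h : minGens (poleOrders P) => exists_lc_one hK P h.2.1
  let m : minGens (poleOrders P) → sectRing D := fun h => ⟨monomial (h : ℕ) (z h), monomial_mem P (hz h)⟩
  let gens : Option (minGens (poleOrders P)) → sectRing D := fun o => o.elim t m
  -- the gens span
  have hspan : I = Ideal.span (Set.range gens) := by
    refine le_antisymm (fun p hp => ?_) ?_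
    · have hmon : ∀ (n : ℕ) (f : K) (hf : f ∈ FunFld.L (Finsupp.single P (n : ℤ))), n ≠ 0 →
          (⟨monomial n f, monomial_mem P hf⟩ : sectRing D) ∈ Ideal.span (Set.range gens) := by
        intro n f hf hn
        have hlow : ∀ (f : K) (hf : f ∈ FunFld.L (Finsupp.single P (n : ℤ))),
            f ∈ FunFld.L (Finsupp.single P ((n : ℤ) - 1)) →
            (⟨monomial n f, monomial_mem P hf⟩ : sectRing D) ∈ Ideal.span (Set.range gens) := by
          intro f hf hf'
          obtain ⟨n', rfl⟩ := Nat.exists_eq_succ_of_ne_zero hn
          rw [Nat.cast_succ, add_sub_cancel_right] at hf'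
          have e : (⟨monomial (n' + 1) f, monomial_mem P hf⟩ : sectRing D) =
              ⟨monomial n' f, monomial_mem P hf'⟩ * t := Subtype.ext (by
            show monomial (n' + 1) f = monomial n' f * monomial 1 1
            rw [monomial_mul_monomial, mul_one])
          rw [e]
          exact Ideal.mul_mem_left _ _ (Ideal.subset_span ⟨none, rfl⟩)
        by_cases h : lc P n f = 0
        · exact hlow f hf ((lc_eq_zero_iff hK P hf).1 h)
        · obtain ⟨g, hg', n', hn', e⟩ := exists_minGen (zero_mem_poleOrders hK P)
            (fun a ha b hb => add_mem_poleOrders hK P ha hb) n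
            (mem_poleOrders_of_lc_ne_zero hK P hf h) hn
          obtain ⟨w, hw, hw1⟩ := exists_lc_one hK P hn'
          have hcw : lc P n f • w ∈ FunFld.L (Finsupp.single P (n' : ℤ)) := Submodule.smul_mem _ _ hw
          subst e
          have hprod := mul_mem_single P (hz ⟨g, hg'⟩) hcw
          rw [← Nat.cast_add] at hprod
          have hdiff : f - z ⟨g, hg'⟩ * (lc P (g + n') f • w) ∈
              FunFld.L (Finsupp.single P (((g + n' : ℕ) : ℤ) - 1)) := by
            rw [← lc_eq_zero_iff hK P (sub_mem hf hprod), sub_eq_add_neg, lc_add hK P hf (neg_mem hprod),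
              ← neg_one_smul k (z ⟨g, hg'⟩ * _), lc_smul hK P _ hprod, lc_mul hK P (hz ⟨g, hg'⟩) hcw,
              hz1, lc_smul hK P _ hw, hw1]
            ring
          have e : (⟨monomial (g + n') f, monomial_mem P hf⟩ : sectRing D) =
              ⟨monomial (g + n') (f - z ⟨g, hg'⟩ * (lc P (g + n') f • w)),
                monomial_mem P (sub_mem hf hprod)⟩ +
              m ⟨g, hg'⟩ * ⟨monomial n' (lc P (g + n') f • w), monomial_mem P hcw⟩ := Subtype.ext (by
            show monomial (g + n') f = monomial (g + n') (f - z ⟨g, hg'⟩ * (lc P (g + n') f • w)) +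
              monomial g (z ⟨g, hg'⟩) * monomial n' (lc P (g + n') f • w)
            rw [monomial_mul_monomial, ← map_add, sub_add_cancel])
          rw [e]
          exact add_mem (hlow _ (sub_mem hf hprod) hdiff) (Ideal.mul_mem_right _ _ (Ideal.subset_span ⟨some ⟨g, hg'⟩, rfl⟩))
      have hp' : p = ∑ n ∈ Finset.range ((p : K[X]).natDegree + 1),
          (⟨monomial n ((p : K[X]).coeff n), monomial_mem P ((mem_sect P).1 p.2 n)⟩ : sectRing D) :=
        Subtype.ext (by
          rw [AddSubmonoidClass.coe_finset_sum]
          exact (p : K[X]).as_sum_range)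
      rw [hp']
      refine sum_mem fun n _ => ?_
      rcases eq_or_ne n 0 with rfl | hn
      · have : (⟨monomial 0 ((p : K[X]).coeff 0), monomial_mem P ((mem_sect P).1 p.2 0)⟩ : sectRing D) = 0 :=
          Subtype.ext (by show monomial 0 _ = 0; rw [(hI p).1 hp, map_zero])
        rw [this]
        exact zero_mem _
      · exact hmon n _ ((mem_sect P).1 p.2 n) hn
    · rw [Ideal.span_le]
      rintro _ ⟨o, rfl⟩
      rcases o with _ | h
      · show (monomial 1 (1 : K)).coeff 0 = 0
        rw [coeff_monomial, if_neg one_ne_zero]
      · show (monomial (h : ℕ) (z h)).coeff 0 = 0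
        rw [coeff_monomial, if_neg h.2.2.1]
  have hcard : Fintype.card (Option (minGens (poleOrders P))) = (minGens (poleOrders P)).ncard + 1 := by
    rw [Fintype.card_option, Set.ncard_eq_toFinset_card', Set.toFinset_card]
  refine le_antisymm ?_ ?_
  · rw [hspan]
    refine (Submodule.spanFinrank_span_le_ncard_of_finite (Set.finite_range gens)).trans ?_
    rw [← hcard, ← Nat.card_eq_fintype_card]
    exact Finite.card_range_le gens
  · -- a linear map killing products
    choose c1 hc1 using fun p : sectRing D =>
      exists_const_of_mem_L_one hK P hg (show (p : K[X]).coeff 1 ∈ FunFld.L (Finsupp.single P (1 : ℤ)) by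
        simpa using (mem_sect P).1 p.2 1)
    let Ψ : sectRing D →+ (Option (minGens (poleOrders P)) → k) :=
      { toFun := fun p o => o.elim (c1 p) fun h => lc P (h : ℕ) ((p : K[X]).coeff (h : ℕ))
        map_zero' := funext fun o => by
          rcases o with _ | h
          · refine (algebraMap k K).injective ?_
            simp [hc1]
          · simpa using lc_zero_right hK P (h : ℕ)
        map_add' := fun p q => funext fun o => by
          rcases o with _ | h
          · refine (algebraMap k K).injective ?_
            simp [hc1]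
          · simp only [Pi.add_apply, Option.elim, AddMemClass.coe_add, coeff_add]
            exact lc_add hK P ((mem_sect P).1 p.2 _) ((mem_sect P).1 q.2 _) }
    have hΨmul : ∀ r p : sectRing D, p ∈ I →
        Ψ (r * p) = lc P 0 ((r : K[X]).coeff 0) • Ψ p := by
      intro r p hp
      have hp0 := (hI p).1 hp
      obtain ⟨c, hc⟩ : ∃ c : k, algebraMap k K c = (r : K[X]).coeff 0 := by
        have := (mem_sect P).1 r.2 0
        rw [Nat.cast_zero, Finsupp.single_zero, L_zero hK, Submodule.mem_one] at this
        exact this
      funext o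
      rcases o with _ | h
      · refine (algebraMap k K).injective ?_
        simp only [Pi.smul_apply, smul_eq_mul, map_mul]
        show algebraMap k K (c1 (r * p)) = _ * algebraMap k K (c1 p)
        rw [hc1, hc1, ← hc, lc_const, hc]
        show ((r : K[X]) * (p : K[X])).coeff 1 = _
        rw [coeff_mul, Finset.Nat.sum_antidiagonal_eq_sum_range_succ_mk, Finset.sum_range_succ,
          Finset.sum_range_one]
        simp [hp0]
      · simp only [Pi.smul_apply, smul_eq_mul]
        show lc P (h : ℕ) (((r * p : sectRing D) : K[X]).coeff (h : ℕ)) = _ * lc P (h : ℕ) _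
        rw [← Phi_coeff hK P, ← Phi_coeff hK P, ← Phi_coeff hK P, map_mul, coeff_mul]
        refine (Finset.sum_eq_single (0, (h : ℕ)) (fun x hx hne => ?_) fun hn => ?_).trans rfl
        · have hxh := Finset.HasAntidiagonal.mem_antidiagonal.1 hx
          by_contra hne0
          obtain ⟨h1, h2⟩ := mul_ne_zero_iff.1 hne0
          rw [Phi_coeff] at h1 h2
          have hx1 : x.1 ≠ 0 := fun e => hne (Prod.ext e (by omega))
          have hx2 : x.2 ≠ 0 := fun e => h2 (by rw [e, hp0, lc_zero_right hK P])
          exact h.2.2.2 _ (mem_poleOrders_of_lc_ne_zero hK P ((mem_sect P).1 r.2 _) h1) _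
            (mem_poleOrders_of_lc_ne_zero hK P ((mem_sect P).1 p.2 _) h2) hx1 hx2 hxh
        · exact absurd (Finset.HasAntidiagonal.mem_antidiagonal.2 (zero_add _)) hn
    have hΨt : Ψ t = Pi.single none 1 := by
      funext o
      rcases o with _ | h
      · refine (algebraMap k K).injective ?_
        show algebraMap k K (c1 t) = _
        rw [hc1, Pi.single_eq_same, map_one]
        show (monomial 1 (1 : K)).coeff 1 = 1
        rw [coeff_monomial, if_pos rfl]
      · rw [Pi.single_eq_of_ne (by simp)]
        show lc P (h : ℕ) ((monomial 1 (1 : K)).coeff (h : ℕ)) = 0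
        have : (h : ℕ) ≠ 1 := fun e => one_not_mem_poleOrders hK P hg (e ▸ h.2.1)
        rw [coeff_monomial, if_neg (fun e => this e.symm), lc_zero_right hK P]
    have hΨm : ∀ h, Ψ (m h) = Pi.single (some h) 1 := by
      intro h
      funext o
      rcases o with _ | h'
      · rw [Pi.single_eq_of_ne (by simp)]
        refine (algebraMap k K).injective ?_
        show algebraMap k K (c1 (m h)) = _
        rw [hc1, map_zero]
        show (monomial (h : ℕ) (z h)).coeff 1 = 0
        have : (h : ℕ) ≠ 1 := fun e => one_not_mem_poleOrders hK P hg (e ▸ h.2.1)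
        rw [coeff_monomial, if_neg this]
      · show lc P (h' : ℕ) ((monomial (h : ℕ) (z h)).coeff (h' : ℕ)) = _
        rcases eq_or_ne h' h with rfl | hne
        · rw [coeff_monomial, if_pos rfl, Pi.single_eq_same, hz1]
        · rw [coeff_monomial, if_neg (fun e => hne (Subtype.ext e.symm)), lc_zero_right hK P,
            Pi.single_eq_of_ne (by simpa using hne)]
    have hfg : I.FG := hspan ▸ Submodule.fg_span (Set.finite_range gens)
    obtain ⟨F, hFcard, hFspan⟩ := Submodule.FG.exists_span_finset_card_eq_spanFinrank hfg
    have hsp : ∀ p ∈ Submodule.span (sectRing D) (F : Set (sectRing D)),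
        p ∈ I ∧ Ψ p ∈ Submodule.span k ((F.image Ψ : Finset _) : Set _) := by
      intro p hp
      induction hp using Submodule.span_induction with
      | mem x hx => exact ⟨hFspan ▸ Submodule.subset_span hx,
          Submodule.subset_span (Finset.mem_coe.2 (Finset.mem_image_of_mem _ hx))⟩
      | zero => exact ⟨zero_mem _, by rw [map_zero]; exact zero_mem _⟩
      | add a b _ _ ha hb => exact ⟨add_mem ha.1 hb.1, by rw [map_add]; exact add_mem ha.2 hb.2⟩
      | smul r a _ ha =>
        refine ⟨I.smul_mem r ha.1, ?_⟩
        rw [smul_eq_mul, hΨmul r a ha.1]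
        exact Submodule.smul_mem _ _ ha.2
    have htop : (⊤ : Submodule k (Option (minGens (poleOrders P)) → k)) ≤
        Submodule.span k ((F.image Ψ : Finset _) : Set _) := by
      rw [← (Pi.basisFun k _).span_eq, Submodule.span_le]
      rintro _ ⟨o, rfl⟩
      have hmem : gens o ∈ I := hspan ▸ Ideal.subset_span (Set.mem_range_self o)
      rw [← hFspan] at hmem
      have := (hsp _ hmem).2
      rw [Pi.basisFun_apply]
      rcases o with _ | h
      · exact hΨt ▸ this
      · exact hΨm h ▸ this
    rw [← hFcard, ← hcard, ← Module.finrank_fintype_fun_eq_card k, ← finrank_top k]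
    refine (Submodule.finrank_mono htop).trans ?_
    exact (finrank_span_finset_le_card _).trans Finset.card_image_le

end Groth.Agent.H1Sect
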