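import Groth.Prelude.Def_W4c6gradedringsgwSect
import Groth.Prelude.Def_CAlg
import Groth.Agent.H02CA.GorRing
import Groth.Agent.H02CA.RegularLocal
import Mathlib

/-!
# Numerical semigroup rings are Gorenstein iff the semigroup is symmetric (Kunz)
-/

set_option autoImplicit false
set_option linter.style.haveILetI false
set_option linter.unusedSectionVars false

universe u

open Polynomial IsLocalRing

namespace Groth.Agent.H1Sect

/-- The semigroup algebra of `H ⊆ ℕ` inside `k[X]`. -/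
def sgRing (k : Type u) [Field k] (H : Set ℕ) (h0 : 0 ∈ H) (hadd : ∀ a ∈ H, ∀ b ∈ H, a + b ∈ H) :
    Subalgebra k k[X] where
  carrier := {p | ∀ n, p.coeff n ≠ 0 → n ∈ H}
  mul_mem' {p q} hp hq n hn := by
    rw [coeff_mul] at hn
    obtain ⟨x, hx, hne⟩ := Finset.exists_ne_zero_of_sum_ne_zero hn
    obtain ⟨h1, h2⟩ := mul_ne_zero_iff.1 hne
    exact (Finset.HasAntidiagonal.mem_antidiagonal.1 hx) ▸ hadd _ (hp _ h1) _ (hq _ h2)
  add_mem' {p q} hp hq n hn := by
    rw [coeff_add] at hn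
    by_cases h : p.coeff n = 0
    · exact hq n fun h' => hn (by rw [h, h', add_zero])
    · exact hp n h
  algebraMap_mem' c n hn := by
    rw [Polynomial.algebraMap_apply, coeff_C] at hn
    split_ifs at hn with h
    · exact h ▸ h0
    · exact absurd rfl hn

section

variable {k : Type u} [Field k] {H : Set ℕ} (h0 : 0 ∈ H) (hadd : ∀ a ∈ H, ∀ b ∈ H, a + b ∈ H)

theorem monomial_mem_sgRing {n : ℕ} (hn : n ∈ H) (c : k) :
    monomial n c ∈ sgRing k H h0 hadd := by
  intro m hm
  rw [coeff_monomial] at hm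
  split_ifs at hm with h
  · exact h ▸ hn
  · exact absurd rfl hm

/-- The monomial `X ^ n` in the semigroup algebra. -/
noncomputable def mono {n : ℕ} (hn : n ∈ H) : sgRing k H h0 hadd :=
  ⟨monomial n 1, monomial_mem_sgRing h0 hadd hn 1⟩

/-- The augmentation. -/
noncomputable def aug : sgRing k H h0 hadd →+* k :=
  constantCoeff.comp (sgRing k H h0 hadd).val.toRingHom

theorem aug_apply (p : sgRing k H h0 hadd) : aug h0 hadd p = (p : k[X]).coeff 0 := rfl

theorem aug_surjective : Function.Surjective (aug (k := k) h0 hadd) := fun c =>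
  ⟨algebraMap k _ c, by rw [aug_apply]; simp⟩

variable {h : ℕ} (hh : h ∈ H)

theorem mem_span_mono_iff (p : sgRing k H h0 hadd) :
    p ∈ Ideal.span {mono h0 hadd hh} ↔ ∀ n, (p : k[X]).coeff n ≠ 0 → h ≤ n ∧ n - h ∈ H := by
  rw [Ideal.mem_span_singleton']
  constructor
  · rintro ⟨q, rfl⟩ n hn
    change ((q : k[X]) * monomial h 1).coeff n ≠ 0 at hn
    rw [← C_mul_X_pow_eq_monomial, map_one, one_mul, coeff_mul_X_pow'] at hn
    split_ifs at hn with hle
    · exact ⟨hle, q.2 _ hn⟩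
    · exact absurd rfl hn
  · intro hp
    refine ⟨⟨∑ n ∈ (p : k[X]).support, monomial (n - h) ((p : k[X]).coeff n),
      sum_mem fun n hn => monomial_mem_sgRing h0 hadd (hp n (mem_support_iff.1 hn)).2 _⟩, Subtype.ext ?_⟩
    show (∑ n ∈ (p : k[X]).support, monomial (n - h) ((p : k[X]).coeff n)) * monomial h 1 = (p : k[X])
    rw [Finset.sum_mul]
    conv_rhs => rw [(p : k[X]).as_sum_support]
    refine Finset.sum_congr rfl fun n hn => ?_
    rw [monomial_mul_monomial, mul_one, Nat.sub_add_cancel (hp n (mem_support_iff.1 hn)).1]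

variable {N : ℕ} (hN : ∀ n, N ≤ n → n ∈ H)

include hN in
theorem pow_mem_span (p : sgRing k H h0 hadd) (hp : (p : k[X]).coeff 0 = 0) :
    p ^ (N + h) ∈ Ideal.span {mono h0 hadd hh} := by
  rw [mem_span_mono_iff]
  intro n hn
  have : N + h ≤ n := by
    by_contra hlt
    refine hn ?_
    show ((p : k[X]) ^ (N + h)).coeff n = 0
    have hdvd : X ^ (N + h) ∣ (p : k[X]) ^ (N + h) := pow_dvd_pow_of_dvd (X_dvd_iff.2 hp) _
    exact X_pow_dvd_iff.1 hdvd n (by omega)
  exact ⟨by omega, hN _ (by omega)⟩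

include hN in
theorem isLocalization_away (hh0 : h ≠ 0) :
    letI : Algebra (sgRing k H h0 hadd) (LaurentPolynomial k) :=
      (Polynomial.toLaurent.comp (sgRing k H h0 hadd).val.toRingHom).toAlgebra
    IsLocalization.Away (mono (k := k) h0 hadd hh) (LaurentPolynomial k) := by
  let B := sgRing k H h0 hadd
  letI : Algebra B (LaurentPolynomial k) :=
    (Polynomial.toLaurent.comp B.val.toRingHom).toAlgebra
  have halg : ∀ b : B, algebraMap B (LaurentPolynomial k) b = Polynomial.toLaurent (b : k[X]) := fun _ => rfl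
  have hx : algebraMap B (LaurentPolynomial k) (mono h0 hadd hh) = LaurentPolynomial.T (h : ℤ) := by
    rw [halg]
    show Polynomial.toLaurent (monomial h (1 : k)) = _
    rw [← C_mul_X_pow_eq_monomial, map_one, one_mul, Polynomial.toLaurent_X_pow]
  refine IsLocalization.Away.mk _ ?_ (fun z => ?_) (fun a b hab => ⟨0, ?_⟩)
  · rw [hx]; exact LaurentPolynomial.isUnit_T _
  · obtain ⟨n, f', hf⟩ := LaurentPolynomial.exists_T_pow z
    -- `toLaurent f' = z * T n`
    have hmem : X ^ (N + (n * (h - 1))) * f' * X ^ (N * (h - 1)) ∈ B := by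
      intro m hm
      refine hN m ?_
      by_contra hlt
      refine hm ?_
      have hdvd : X ^ N ∣ X ^ (N + n * (h - 1)) * f' * X ^ (N * (h - 1)) :=
        Dvd.dvd.mul_right (Dvd.dvd.mul_right (pow_dvd_pow _ (Nat.le_add_right _ _)) _) _
      exact X_pow_dvd_iff.1 hdvd m (by omega)
    refine ⟨N + n, ⟨_, hmem⟩, ?_⟩
    rw [hx, halg]
    simp only [map_mul, Polynomial.toLaurent_X_pow, hf, LaurentPolynomial.T_pow]
    rw [show LaurentPolynomial.T ((N + n * (h - 1) : ℕ) : ℤ) * (z * LaurentPolynomial.T (n : ℤ)) *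
        LaurentPolynomial.T ((N * (h - 1) : ℕ) : ℤ) =
      z * (LaurentPolynomial.T ((N + n * (h - 1) : ℕ) : ℤ) * LaurentPolynomial.T (n : ℤ) *
        LaurentPolynomial.T ((N * (h - 1) : ℕ) : ℤ)) by ring,
      ← LaurentPolynomial.T_add, ← LaurentPolynomial.T_add]
    congr 2
    obtain ⟨h', rfl⟩ := Nat.exists_eq_succ_of_ne_zero hh0
    rw [show h'.succ - 1 = h' from rfl]
    push_cast
    ring
  · rw [halg, halg] at hab
    rw [Subtype.ext (Polynomial.toLaurent_injective hab)]

include hh hN in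
theorem eq_augIdeal_of_mem (hh0 : h ≠ 0) (q : Ideal (sgRing k H h0 hadd)) [q.IsPrime]
    (hx : mono h0 hadd hh ∈ q) : q = RingHom.ker (aug h0 hadd) := by
  have hmax : (RingHom.ker (aug (k := k) h0 hadd)).IsMaximal :=
    RingHom.ker_isMaximal_of_surjective _ (aug_surjective (k := k) h0 hadd)
  refine (hmax.eq_of_le ‹q.IsPrime›.ne_top fun p hp => ?_).symm
  have := pow_mem_span h0 hadd hh hN p hp
  exact ‹q.IsPrime›.mem_of_pow_mem _ ((Ideal.span_singleton_le_iff_mem _).2 hx this)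

include hh hN in
theorem gor_of_not_mem [IsNoetherianRing (sgRing k H h0 hadd)] (hh0 : h ≠ 0)
    (q : Ideal (sgRing k H h0 hadd)) [q.IsPrime] (hq : mono h0 hadd hh ∉ q) :
    LocCoh.IsGorensteinLocalRing (Localization.AtPrime q) := by
  letI : Algebra (sgRing k H h0 hadd) (LaurentPolynomial k) :=
    (Polynomial.toLaurent.comp (sgRing k H h0 hadd).val.toRingHom).toAlgebra
  haveI := isLocalization_away (k := k) h0 hadd hh hN hh0
  haveI : IsRegularRing (LaurentPolynomial k) :=
    H02CA.isRegularRing_of_isLocalization (S := k[X]) (Submonoid.powers (X : k[X]))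
  have hd : Disjoint (Submonoid.powers (mono (k := k) h0 hadd hh) : Set (sgRing k H h0 hadd)) (q : Set _) := by
    rw [Set.disjoint_left]
    rintro _ ⟨j, rfl⟩ hj
    exact hq (‹q.IsPrime›.mem_of_pow_mem j hj)
  haveI := IsLocalization.isPrime_of_isPrime_disjoint (Submonoid.powers (mono h0 hadd hh))
    (LaurentPolynomial k) q ‹_› hd
  have e := IsLocalization.comap_map_of_isPrime_disjoint (Submonoid.powers (mono h0 hadd hh))
    (LaurentPolynomial k) ‹q.IsPrime› hd
  refine (H02CA.GorFlat.gor_congr e).1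
    ((H02CA.GorFlat.gor_localization_iff (Submonoid.powers (mono h0 hadd hh)) (LaurentPolynomial k)
      (q.map (algebraMap _ (LaurentPolynomial k)))).1 ?_)
  exact (H02CA.GorFlat.isGorensteinRing_of_isRegularRing (LaurentPolynomial k)).isGorensteinLocalRing_localization _

include hh hN in
theorem isUnit_mk_of_coeff_ne (p : sgRing k H h0 hadd) (hc : (p : k[X]).coeff 0 ≠ 0) :
    IsUnit (Ideal.Quotient.mk (Ideal.span {mono (k := k) h0 hadd hh}) p) := by
  let B := sgRing k H h0 hadd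
  let π := Ideal.Quotient.mk (Ideal.span {mono (k := k) h0 hadd hh})
  show IsUnit (π p)
  have hnil : IsNilpotent (π (algebraMap k B ((p : k[X]).coeff 0) - p)) := by
    refine ⟨N + h, ?_⟩
    rw [← map_pow, Ideal.Quotient.eq_zero_iff_mem]
    exact pow_mem_span h0 hadd hh hN _ (by
      show (C ((p : k[X]).coeff 0) - (p : k[X])).coeff 0 = 0
      rw [coeff_sub, coeff_C_zero, sub_self])
  have hu : IsUnit (π (algebraMap k B ((p : k[X]).coeff 0))) :=
    ((isUnit_iff_ne_zero.2 hc).map (algebraMap k B)).map π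
  have := IsNilpotent.isUnit_add_left_of_commute hnil.neg hu (by show _ * _ = _ * _; ring)
  rw [map_sub] at this
  simpa using this

include hh hN in
theorem isLocalRing_quotient (hh0 : h ≠ 0) :
    IsLocalRing (sgRing k H h0 hadd ⧸ Ideal.span {mono (k := k) h0 hadd hh}) := by
  haveI : Nontrivial (sgRing k H h0 hadd ⧸ Ideal.span {mono (k := k) h0 hadd hh}) :=
    Ideal.Quotient.nontrivial_iff.2 fun htop => by
      have h1 : (1 : sgRing k H h0 hadd) ∈ Ideal.span {mono (k := k) h0 hadd hh} :=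
        htop ▸ Submodule.mem_top
      have := ((mem_span_mono_iff h0 hadd hh _).1 h1 0 (by simp)).1
      omega
  refine IsLocalRing.of_isUnit_or_isUnit_one_sub_self fun a => ?_
  obtain ⟨p, rfl⟩ := Ideal.Quotient.mk_surjective a
  by_cases hc : (p : k[X]).coeff 0 = 0
  · refine Or.inr ?_
    rw [← map_one (Ideal.Quotient.mk (Ideal.span {mono (k := k) h0 hadd hh})), ← map_sub]
    refine isUnit_mk_of_coeff_ne h0 hadd hh hN _ ?_
    show ((1 : k[X]) - (p : k[X])).coeff 0 ≠ 0
    rw [coeff_sub, hc, coeff_one_zero, sub_zero]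
    exact one_ne_zero
  · exact Or.inl (isUnit_mk_of_coeff_ne h0 hadd hh hN _ hc)

/-- Membership in `H`, for integers. -/
def ZMem (H : Set ℕ) (n : ℤ) : Prop := ∃ a ∈ H, (a : ℤ) = n

theorem zmem_natCast {n : ℕ} : ZMem H (n : ℤ) ↔ n ∈ H :=
  ⟨fun ⟨a, ha, e⟩ => (by exact_mod_cast e : a = n) ▸ ha, fun hn => ⟨n, hn, rfl⟩⟩

include hadd in
theorem zmem_add {m n : ℤ} (hm : ZMem H m) (hn : ZMem H n) : ZMem H (m + n) := by
  obtain ⟨a, ha, rfl⟩ := hm
  obtain ⟨b, hb, rfl⟩ := hn
  exact ⟨a + b, hadd a ha b hb, by push_cast; rfl⟩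

/-- The pseudo-Frobenius numbers. -/
def PF (H : Set ℕ) : Set ℤ := {g | ¬ ZMem H g ∧ ∀ a ∈ H, a ≠ 0 → ZMem H (g + a)}

include h0 hadd hN in
theorem isSymmetric_iff_subsingleton :
    W4c6gradedringsgw.IsSymmetric H ↔ (PF H).Subsingleton := by
  classical
  obtain ⟨F, hF, hFmax⟩ : ∃ F : ℤ, ¬ ZMem H F ∧ ∀ z : ℤ, ¬ ZMem H z → z ≤ F := by
    refine Int.exists_greatest_of_bdd ⟨(N : ℤ), fun z hz => ?_⟩ ⟨-1, fun ⟨a, _, e⟩ => by omega⟩
    by_contra hlt
    exact hz ⟨z.toNat, hN _ (by omega), by omega⟩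
  have hFPF : F ∈ PF H := ⟨hF, fun a _ ha0 => by
    by_contra hn
    have := hFmax _ hn
    omega⟩
  constructor
  · rintro ⟨d, hd⟩
    have hd0 : ¬ ZMem H d := fun hmem => ((hd 0).1 ⟨0, h0, rfl⟩) (by simpa [ZMem] using hmem)
    have key : ∀ g ∈ PF H, g = d := by
      intro g ⟨hg, hga⟩
      by_contra hne
      obtain ⟨a, ha, hae⟩ : ZMem H (d - g) := by
        by_contra hc
        exact hg ((hd g).2 hc)
      have := hga a ha (by omega)
      rw [hae, add_sub_cancel] at this
      exact hd0 this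
    intro a ha b hb
    rw [key a ha, key b hb]
  · intro hsub
    refine ⟨F, fun n => ⟨fun hn hn' => hF ?_, fun hn => ?_⟩⟩
    · have := zmem_add hadd hn hn'
      rwa [add_sub_cancel] at this
    · by_contra hn'
      -- the largest gap congruent into the semigroup
      obtain ⟨g, ⟨hg, hgn⟩, hgmax⟩ := Int.exists_greatest_of_bdd
        (P := fun m : ℤ => ¬ ZMem H m ∧ ZMem H (m - n)) ⟨F, fun z hz => hFmax z hz.1⟩
        ⟨n, hn', ⟨0, h0, by omega⟩⟩
      have hgPF : g ∈ PF H := ⟨hg, fun a ha ha0 => by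
        by_contra hc
        have := hgmax (g + a) ⟨hc, by
          have := zmem_add hadd hgn (zmem_natCast.2 ha)
          rwa [show g - n + (a : ℤ) = g + a - n by ring] at this⟩
        omega⟩
      rw [hsub hgPF hFPF] at hgn
      exact hn hgn

include hh hN in
theorem socleCyclic_quotient_iff (hh0 : h ≠ 0) [IsNoetherianRing (sgRing k H h0 hadd)]
    [IsLocalRing (sgRing k H h0 hadd ⧸ Ideal.span {mono (k := k) h0 hadd hh})] :
    H02CA.GorFlat.SocleCyclic (sgRing k H h0 hadd ⧸ Ideal.span {mono (k := k) h0 hadd hh}) ↔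
      (PF H).Subsingleton := by
  classical
  let B := sgRing k H h0 hadd
  let J : Ideal B := Ideal.span {mono h0 hadd hh}
  let π := Ideal.Quotient.mk J
  have hJ : ∀ p : B, p ∈ J ↔ ∀ n, (p : k[X]).coeff n ≠ 0 → h ≤ n ∧ n - h ∈ H :=
    mem_span_mono_iff h0 hadd hh
  have hmax : ∀ p : B, π p ∈ maximalIdeal (B ⧸ J) ↔ (p : k[X]).coeff 0 = 0 := by
    intro p
    refine ⟨fun hp => ?_, fun hp => ?_⟩
    · by_contra hc
      refine (mem_maximalIdeal _).1 hp ?_
      have hnil : IsNilpotent (π (algebraMap k B ((p : k[X]).coeff 0) - p)) := by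
        refine ⟨N + h, ?_⟩
        rw [← map_pow, Ideal.Quotient.eq_zero_iff_mem]
        exact pow_mem_span h0 hadd hh hN _ (by
          show (C ((p : k[X]).coeff 0) - (p : k[X])).coeff 0 = 0
          rw [coeff_sub, coeff_C_zero, sub_self])
      have hu : IsUnit (π (algebraMap k B ((p : k[X]).coeff 0))) :=
        ((isUnit_iff_ne_zero.2 hc).map (algebraMap k B)).map π
      have := IsNilpotent.isUnit_add_left_of_commute hnil.neg hu (by show _ * _ = _ * _; ring)
      rw [map_sub] at this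
      simpa using this
    · rw [mem_maximalIdeal]
      refine IsNilpotent.not_isUnit ⟨N + h, ?_⟩
      rw [← map_pow, Ideal.Quotient.eq_zero_iff_mem]
      exact pow_mem_span h0 hadd hh hN _ hp
  let Z : Set ℕ := {n | n ∈ H ∧ ¬ (h ≤ n ∧ n - h ∈ H) ∧
    ∀ a ∈ H, a ≠ 0 → h ≤ n + a ∧ n + a - h ∈ H}
  have hsub : ∀ n : ℕ, (h ≤ n ∧ n - h ∈ H) ↔ ZMem H ((n : ℤ) - h) := fun n =>
    ⟨fun hn => ⟨n - h, hn.2, by omega⟩, fun ⟨a, ha, e⟩ => ⟨by omega, by
      rwa [show n - h = a by omega]⟩⟩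
  have hZ : (PF H).Subsingleton ↔ Z.Subsingleton := by
    constructor
    · intro hs a ha b hb
      have key : ∀ c ∈ Z, (c : ℤ) - h ∈ PF H := fun c ⟨_, hc2, hc3⟩ =>
        ⟨fun hm => hc2 ((hsub c).2 hm), fun a ha ha0 => by
          have := (hsub _).1 (hc3 a ha ha0)
          rwa [Nat.cast_add, add_sub_right_comm] at this⟩
      have := hs (key a ha) (key b hb)
      omega
    · intro hs g hg g' hg'
      have key : ∀ g ∈ PF H, ∃ n ∈ Z, (n : ℤ) = g + h := fun g ⟨hg1, hg2⟩ => by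
        obtain ⟨n, hn, e⟩ := hg2 h hh hh0
        refine ⟨n, ⟨hn, fun hm => hg1 ?_, fun a ha ha0 => (hsub _).2 ?_⟩, e⟩
        · have := (hsub n).1 hm
          rwa [e, add_sub_cancel_right] at this
        · rw [Nat.cast_add, e, show g + h + (a : ℤ) - h = g + a by ring]
          exact hg2 a ha ha0
      obtain ⟨n, hn, e⟩ := key g hg
      obtain ⟨n', hn', e'⟩ := key g' hg'
      have := hs hn hn'
      omega
  rw [hZ]
  have hsoc_mono : ∀ n (hn : n ∈ Z), ∀ a ∈ maximalIdeal (B ⧸ J), a * π (mono h0 hadd hn.1) = 0 := by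
    intro n hn a ha
    obtain ⟨p, rfl⟩ := Ideal.Quotient.mk_surjective a
    rw [← map_mul, Ideal.Quotient.eq_zero_iff_mem, hJ]
    intro m hm
    change ((p : k[X]) * monomial n 1).coeff m ≠ 0 at hm
    rw [← C_mul_X_pow_eq_monomial, map_one, one_mul, coeff_mul_X_pow'] at hm
    split_ifs at hm with hle
    · have h1 := hn.2.2 (m - n) (p.2 _ hm) fun e => hm (by rw [e]; exact (hmax p).1 ha)
      rwa [Nat.add_sub_cancel' hle] at h1
    · exact absurd rfl hm
  have hmono_ne : ∀ n (hn : n ∈ Z) (c : k), c ≠ 0 → ∀ q : B, (q : k[X]).coeff n = c → π q ≠ 0 := by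
    intro n hn c hc q hq hzero
    rw [Ideal.Quotient.eq_zero_iff_mem, hJ] at hzero
    exact hn.2.1 (hzero n (by rw [hq]; exact hc))
  constructor
  · rintro ⟨z, hz, hzy⟩ a ha b hb
    by_contra hne
    obtain ⟨z, rfl⟩ := Ideal.Quotient.mk_surjective z
    have key : ∀ n (hn : n ∈ Z), ∃ c : k, π (algebraMap k B c * z) = π (mono h0 hadd hn.1) := by
      intro n hn
      obtain ⟨r, hr⟩ := hzy _ (hsoc_mono n hn)
      obtain ⟨r, rfl⟩ := Ideal.Quotient.mk_surjective r
      refine ⟨(r : k[X]).coeff 0, ?_⟩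
      rw [← hr, ← sub_eq_zero, ← map_mul, ← map_sub, ← sub_mul, map_mul]
      refine hz _ ((hmax _).2 ?_)
      show (C ((r : k[X]).coeff 0) - (r : k[X])).coeff 0 = 0
      rw [coeff_sub, coeff_C_zero, sub_self]
    obtain ⟨c, hc⟩ := key a ha
    obtain ⟨c', hc'⟩ := key b hb
    have e : π (algebraMap k B c' * mono h0 hadd ha.1 - algebraMap k B c * mono h0 hadd hb.1) = 0 := by
      rw [map_sub, map_mul, map_mul, ← hc, ← hc', map_mul, map_mul]; ring
    have hc'0 : c' ≠ 0 := fun h' => hmono_ne b hb 1 one_ne_zero (mono h0 hadd hb.1)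
      (by show (monomial b (1 : k)).coeff b = 1; simp)
      (by rw [← hc', h', map_zero, zero_mul, map_zero])
    refine hmono_ne a ha c' hc'0 _ ?_ e
    show (C c' * monomial a 1 - C c * monomial b 1).coeff a = c'
    rw [coeff_sub, coeff_C_mul, coeff_C_mul, coeff_monomial, coeff_monomial, if_pos rfl,
      if_neg (fun e' => hne e'.symm)]
    ring
  · intro hs
    obtain ⟨n₀, hn₀⟩ : Z.Nonempty := by
      obtain ⟨F, hF, hFmax⟩ : ∃ F : ℤ, ¬ ZMem H F ∧ ∀ z : ℤ, ¬ ZMem H z → z ≤ F := by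
        refine Int.exists_greatest_of_bdd ⟨(N : ℤ), fun z hz => ?_⟩ ⟨-1, fun ⟨a, _, e⟩ => by omega⟩
        by_contra hlt
        exact hz ⟨z.toNat, hN _ (by omega), by omega⟩
      obtain ⟨n, hn, e⟩ : ZMem H (F + h) := by
        by_contra hc
        have := hFmax _ hc
        omega
      refine ⟨n, hn, fun hm => hF ?_, fun a _ ha0 => (hsub _).2 ?_⟩
      · have := (hsub n).1 hm
        rwa [e, add_sub_cancel_right] at this
      · by_contra hc
        have := hFmax _ hc
        omega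
    refine ⟨π (mono h0 hadd hn₀.1), hsoc_mono n₀ hn₀, fun y hy => ?_⟩
    obtain ⟨y, rfl⟩ := Ideal.Quotient.mk_surjective y
    refine ⟨π (algebraMap k B ((y : k[X]).coeff n₀)), ?_⟩
    rw [← map_mul, ← sub_eq_zero, ← map_sub, Ideal.Quotient.eq_zero_iff_mem, hJ]
    intro m hm
    change (C ((y : k[X]).coeff n₀) * monomial n₀ 1 - (y : k[X])).coeff m ≠ 0 at hm
    rw [coeff_sub, coeff_C_mul, coeff_monomial] at hm
    by_cases e : n₀ = m
    · subst e; simp at hm
    rw [if_neg e, mul_zero, zero_sub, neg_ne_zero] at hm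
    by_contra hc
    refine e (hs hn₀ ⟨y.2 m hm, hc, fun a ha ha0 => ?_⟩)
    have h1 := hy (π (mono h0 hadd ha)) ((hmax _).2 (by
      show (monomial a (1 : k)).coeff 0 = 0
      rw [coeff_monomial, if_neg ha0]))
    rw [← map_mul, Ideal.Quotient.eq_zero_iff_mem, hJ] at h1
    refine h1 (m + a) ?_
    show (monomial a 1 * (y : k[X])).coeff (m + a) ≠ 0
    rwa [coeff_monomial_mul, one_mul]

include hh hN in
theorem isGorensteinRing_sgRing_iff [IsNoetherianRing (sgRing k H h0 hadd)] (hh0 : h ≠ 0) :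
    LocCoh.IsGorensteinRing (sgRing k H h0 hadd) ↔ W4c6gradedringsgw.IsSymmetric H := by
  classical
  let B := sgRing k H h0 hadd
  let x := mono (k := k) h0 hadd hh
  let J : Ideal B := Ideal.span {x}
  let 𝔫 : Ideal B := RingHom.ker (aug h0 hadd)
  haveI : 𝔫.IsMaximal := RingHom.ker_isMaximal_of_surjective _ (aug_surjective (k := k) h0 hadd)
  have hx𝔫 : x ∈ 𝔫 := by
    show (monomial h (1 : k)).coeff 0 = 0
    rw [coeff_monomial, if_neg hh0]
  haveI : Nontrivial (B ⧸ J) := Ideal.Quotient.nontrivial_iff.2 fun htop =>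
    (inferInstance : 𝔫.IsMaximal).ne_top (top_unique (htop ▸ (Ideal.span_singleton_le_iff_mem _).2 hx𝔫))
  let 𝔪 : Ideal (B ⧸ J) := 𝔫.map (Ideal.Quotient.mk J)
  have hcomap : 𝔪.comap (Ideal.Quotient.mk J) = 𝔫 := by
    rw [Ideal.comap_map_of_surjective _ Ideal.Quotient.mk_surjective, ← RingHom.ker_eq_comap_bot,
      Ideal.mk_ker, sup_eq_left, Ideal.span_singleton_le_iff_mem]
    exact hx𝔫
  have huniq : ∀ P : Ideal (B ⧸ J), P.IsPrime → P = 𝔪 := by
    intro P hP
    haveI := hP
    have hxP : x ∈ P.comap (Ideal.Quotient.mk J) := by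
      rw [Ideal.mem_comap, Ideal.Quotient.eq_zero_iff_mem.2 (Ideal.mem_span_singleton_self x)]
      exact zero_mem P
    have := eq_augIdeal_of_mem h0 hadd hh hN hh0 (P.comap (Ideal.Quotient.mk J)) hxP
    rw [← Ideal.map_comap_of_surjective _ Ideal.Quotient.mk_surjective P, this]
  haveI : IsLocalRing (B ⧸ J) := isLocalRing_quotient h0 hadd hh hN hh0
  have hdim : ringKrullDim (B ⧸ J) = 0 := by
    haveI : Ring.KrullDimLE 0 (B ⧸ J) := Ring.krullDimLE_zero_iff.2 fun P hP => by
      obtain ⟨M, hM, hPM⟩ := Ideal.exists_le_maximal P hP.ne_top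
      rw [huniq P hP, ← huniq M hM.isPrime]
      exact hM
    exact le_antisymm (Ring.krullDimLE_iff.1 inferInstance) ringKrullDim_nonneg_of_nontrivial
  have hm : maximalIdeal (B ⧸ J) = 𝔪 := huniq _ inferInstance
  have hcm : (maximalIdeal (B ⧸ J)).comap (Ideal.Quotient.mk J) = 𝔫 := by rw [hm, hcomap]
  let L := Localization.AtPrime 𝔫
  haveI : IsLocalization ((maximalIdeal (B ⧸ J)).comap (Ideal.Quotient.mk J)).primeCompl L := by
    rw [show ((maximalIdeal (B ⧸ J)).comap (Ideal.Quotient.mk J)).primeCompl = 𝔫.primeCompl from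
      SetLike.ext fun b => by
        show b ∉ (maximalIdeal (B ⧸ J)).comap (Ideal.Quotient.mk J) ↔ b ∉ 𝔫
        rw [hcm]]
    infer_instance
  obtain ⟨eq⟩ := H02CA.GorFlat.nonempty_equiv_quot (R := B) (S := B ⧸ J) (Ideal.Quotient.mk J) Ideal.Quotient.mk_surjective
    (maximalIdeal (B ⧸ J)) L
  let e2 := (IsLocalization.atUnits (B ⧸ J) (maximalIdeal (B ⧸ J)).primeCompl
    (fun _ hb => notMem_maximalIdeal.mp hb) (S := Localization.AtPrime (maximalIdeal (B ⧸ J)))).symm.toRingEquiv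
  let xL : L := algebraMap B L x
  have hker : (RingHom.ker (Ideal.Quotient.mk J)).map (algebraMap B L) = Ideal.span {xL} := by
    rw [Ideal.mk_ker, Ideal.map_span, Set.image_singleton]
  haveI : IsNoetherianRing L := IsLocalization.isNoetherianRing 𝔫.primeCompl L inferInstance
  have hxm : xL ∈ maximalIdeal L := (IsLocalization.AtPrime.to_map_mem_maximal_iff L 𝔫 x).2 hx𝔫
  have hxreg : IsSMulRegular L xL := by
    have hB : x ≠ 0 := fun e => by
      have : (monomial h (1 : k)) = 0 := congrArg Subtype.val e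
      simp at this
    haveI : IsDomain L := IsLocalization.isDomain_localization 𝔫.primeCompl_le_nonZeroDivisors
    exact IsSMulRegular.of_ne_zero ((map_ne_zero_iff _
      (IsLocalization.injective L 𝔫.primeCompl_le_nonZeroDivisors)).2 hB)
  have hcrit : LocCoh.IsGorensteinLocalRing L ↔ (PF H).Subsingleton := by
    rw [H4Goren.isGorensteinLocalRing_quotient_iff hxm hxreg,
      H02CA.GorFlat.gor_iff_of_ringEquiv (B := B ⧸ J) ((Ideal.quotEquivOfEq hker.symm).trans (eq.trans e2)),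
      H02CA.GorFlat.gor_iff_socle hdim, socleCyclic_quotient_iff h0 hadd hh hN hh0]
  rw [isSymmetric_iff_subsingleton h0 hadd hN, ← hcrit]
  constructor
  · intro hG
    exact hG.isGorensteinLocalRing_localization 𝔫
  · intro hL
    refine { isGorensteinLocalRing_localization := fun q _ => ?_ }
    by_cases hq : x ∈ q
    · exact (H02CA.GorFlat.gor_congr (eq_augIdeal_of_mem h0 hadd hh hN hh0 q hq).symm).1 hL
    · exact gor_of_not_mem h0 hadd hh hN hh0 q hq

end

end Groth.Agent.H1Sect
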