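import Groth.Agent.H1Sect.Affine
import Groth.Agent.H1Sect.SemigroupRing
import Mathlib

/-!
# The section ring of a point is Gorenstein iff its pole semigroup is symmetric
-/

set_option autoImplicit false
set_option linter.style.haveILetI false
set_option linter.unusedSectionVars false

universe u

open Polynomial IsLocalRing

namespace Groth.Agent.H1Sect

open Groth.Agent.H23FunFld W4c6gradedringsgw

/-- A quotient by a regular element `t` is Gorenstein iff the ring is Gorenstein along `t = 0`. -/
theorem gor_iff_of_ker_eq_span {R S : Type u} [CommRing R] [CommRing S] [IsNoetherianRing R]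
    [IsDomain R] (φ : R →+* S) (hφ : Function.Surjective φ) {t : R} (ht0 : t ≠ 0)
    (hker : RingHom.ker φ = Ideal.span {t})
    (hout : ∀ (p : Ideal R) [p.IsPrime], t ∉ p →
      LocCoh.IsGorensteinLocalRing (Localization.AtPrime p)) :
    LocCoh.IsGorensteinRing R ↔ LocCoh.IsGorensteinRing S := by
  have key : ∀ (q : Ideal S) [q.IsPrime],
      LocCoh.IsGorensteinLocalRing (Localization.AtPrime (q.comap φ)) ↔
        LocCoh.IsGorensteinLocalRing (Localization.AtPrime q) := by
    intro q _
    let L := Localization.AtPrime (q.comap φ)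
    haveI : IsNoetherianRing L := IsLocalization.isNoetherianRing (q.comap φ).primeCompl L inferInstance
    obtain ⟨e⟩ := H02CA.GorFlat.nonempty_equiv_quot φ hφ q L
    have htq : t ∈ q.comap φ := by
      rw [Ideal.mem_comap, show φ t = 0 from RingHom.mem_ker.1 (hker ▸ Ideal.mem_span_singleton_self t)]
      exact q.zero_mem
    have htm : algebraMap R L t ∈ maximalIdeal L :=
      (IsLocalization.AtPrime.to_map_mem_maximal_iff L (q.comap φ) t).2 htq
    haveI : IsDomain L := IsLocalization.isDomain_localization (q.comap φ).primeCompl_le_nonZeroDivisors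
    have hreg : IsSMulRegular L (algebraMap R L t) := IsSMulRegular.of_ne_zero ((map_ne_zero_iff _
      (IsLocalization.injective L (q.comap φ).primeCompl_le_nonZeroDivisors)).2 ht0)
    have hk : (RingHom.ker φ).map (algebraMap R L) = Ideal.span {algebraMap R L t} := by
      rw [hker, Ideal.map_span, Set.image_singleton]
    rw [H4Goren.isGorensteinLocalRing_quotient_iff htm hreg,
      H02CA.GorFlat.gor_iff_of_ringEquiv ((Ideal.quotEquivOfEq hk.symm).trans e)]
  constructor
  · intro hR
    haveI := isNoetherianRing_of_surjective R S φ hφ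
    exact { isGorensteinLocalRing_localization := fun q _ =>
      (key q).1 (hR.isGorensteinLocalRing_localization _) }
  · intro hS
    refine { isGorensteinLocalRing_localization := fun p _ => ?_ }
    by_cases htp : t ∈ p
    · have hle : RingHom.ker φ ≤ p := by
        rw [hker, Ideal.span_singleton_le_iff_mem]; exact htp
      haveI := Ideal.map_isPrime_of_surjective hφ hle
      have e : (p.map φ).comap φ = p := by
        rw [Ideal.comap_map_of_surjective φ hφ, ← RingHom.ker_eq_comap_bot, sup_eq_left]
        exact hle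
      exact (H02CA.GorFlat.gor_congr e).1 ((key (p.map φ)).2 (hS.isGorensteinLocalRing_localization _))
    · exact hout p htp

variable {k K : Type u} [Field k] [IsAlgClosed k] [Field K] [Algebra k K]
  (hK : FunFld.IsFunctionField k K) (P : FunFld.Place k K)

include hK

theorem Phi_mem_sgRing (p : sectRing (Finsupp.single P 1 : FunFld.Divisor k K)) :
    Phi hK P p ∈ sgRing k (poleOrders P) (zero_mem_poleOrders hK P)
      (fun _ ha _ hb => add_mem_poleOrders hK P ha hb) := fun n hn => by
  rw [Phi_coeff] at hn
  exact mem_poleOrders_of_lc_ne_zero hK P ((mem_sect P).1 p.2 n) hn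

theorem isGorensteinRing_sectRing_iff :
    LocCoh.IsGorensteinRing (sectRing (Finsupp.single P 1 : FunFld.Divisor k K)) ↔
      IsSymmetric (poleOrders P) := by
  classical
  let R := sectRing (Finsupp.single P 1 : FunFld.Divisor k K)
  let H := poleOrders P
  let S := sgRing k H (zero_mem_poleOrders hK P) (fun _ ha _ hb => add_mem_poleOrders hK P ha hb)
  let φ : R →+* S := ((Phi hK P).codRestrict S (Phi_mem_sgRing hK P)).toRingHom
  have hφ : Function.Surjective φ := by
    intro s
    choose z hz hz1 using fun (n : H) => exists_lc_one hK P n.2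
    let f : ℕ → R := fun n => if h : n ∈ H then
      ⟨monomial n ((s : k[X]).coeff n • z ⟨n, h⟩),
        monomial_mem P (Submodule.smul_mem _ _ (hz ⟨n, h⟩))⟩ else 0
    refine ⟨∑ n ∈ (s : k[X]).support, f n, Subtype.ext ?_⟩
    show Phi hK P (∑ n ∈ (s : k[X]).support, f n) = (s : k[X])
    rw [map_sum]
    conv_rhs => rw [(s : k[X]).as_sum_support]
    refine Finset.sum_congr rfl fun n hn => ?_
    have hnH : n ∈ H := s.2 n (mem_support_iff.1 hn)
    simp only [f, dif_pos hnH]
    rw [Phi_monomial hK P (Submodule.smul_mem _ _ (hz ⟨n, hnH⟩)), lc_smul hK P _ (hz ⟨n, hnH⟩), hz1,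
      mul_one]
  have h1L : (1 : K) ∈ FunFld.L (Finsupp.single P ((1 : ℕ) : ℤ)) := by
    refine L_mono (single_le_of_le P zero_le_one) ?_
    rw [Nat.cast_zero, Finsupp.single_zero, ← map_one (algebraMap k K)]
    exact algebraMap_mem_L_zero 1
  let t : R := ⟨monomial 1 1, monomial_mem P h1L⟩
  have htX : (t : K[X]) = X := monomial_one_one_eq_X
  have ht0 : t ≠ 0 := fun e => X_ne_zero (R := K) (htX ▸ congrArg Subtype.val e)
  have hker : RingHom.ker φ = Ideal.span {t} := by
    rw [← ker_Phi hK P (one_ne_zero (α := k)) t (by rw [map_one, map_one, one_mul, htX])]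
    ext p
    rw [RingHom.mem_ker, RingHom.mem_ker]
    exact Subtype.ext_iff
  haveI := isNoetherianRing_sectRing hK P
  haveI : IsNoetherianRing S := isNoetherianRing_of_surjective R S φ hφ
  have hN : ∀ n, 2 * FunFld.genus k K + 1 ≤ n → n ∈ H := fun n hn =>
    mem_poleOrders_of_large hK P (by omega) (by omega)
  rw [gor_iff_of_ker_eq_span φ hφ ht0 hker fun p _ hp => gor_of_not_mem_sect hK P t htX p hp,
    isGorensteinRing_sgRing_iff _ _ (hN _ le_rfl) hN (by omega)]

end Groth.Agent.H1Sect
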